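import Cfsg.Agent.Depth.P.Id_m3
import Cfsg.Agent.Depth.P.T.Trm_mg_m3
import Cfsg.Agent.Lib.ListFast
set_option linter.all false

-- part: Depth/P/T/S4
section
/-!
# Depth (S5768): segments of the tables (helper45; merged by helper57)
-/

set_option autoImplicit false
set_option maxRecDepth 100000
set_option Elab.async false

namespace Cfsg.Agent.Depth.P.T

/-- a segment -/
def gM_1 : Seg := ⟨699924, 200076, 1, lp, lm⟩

/-- a table on a segment -/
noncomputable def dP60_M_1 : Dyn := ⟨350000, 100000, 0xfd7f, 0x1a93c,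
  ub 3 0x1e405edbba00204063c35000238077bbfd0⟩

/-- a table on a segment -/
noncomputable def dI60_M_1 : Dyn := ⟨350000, 100000, 0x2541b, 0x301d2,
  ub 3 0x2a00976ddd0023409c61a8002900945dfe8⟩

/-- a table on a segment -/
noncomputable def dI120_M_1 : Dyn := ⟨175000, 50000, 0xc33922a73, 0x3ccf0d552,
  ub 3 0x49414236ee8046c0f830d4005301372eff4⟩

/-- a table on a segment -/
noncomputable def dI840_M_1 : Dyn := ⟨25000, 7142, 0xa10da814ed21764ed61766cd31268f16370049bae2e78a0516490b55a7d7291, 0x6782314885d8e3885d8f3881f8e7cac4323e5ddbc12794ac6064a9c50a94293,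
  ub 3 0x144c56007d8e0dc432706f9b127844f06b6c⟩

/-- a table on a segment -/
noncomputable def dI1320_M_1 : Dyn := ⟨15909, 4545, 0x196faf121c5e49010e5e2ae49010e5e2ad48892e460ea4900625be244b91af26a1e45190732004c2b8cf7d88f40c17b7504, 0xc9568dd208534a93225f6a34a93225f6a35ffa202f62a1b0322534b6ce237f762aa13307233cb258900d0c62f83c9ed3342,
  ub 3 0x1a0070004fe6122845c0470518706300445c⟩

/-- a table on a segment -/
noncomputable def dI1560_M_1 : Dyn := ⟨13461, 3846, 0x590a7189cc7b2a6b58c7623845a6bd8c7623845c0b7884e014478e376562a984547a69c71616e6bba915502f1f180123d63e6d50c12ffc0a46b07, 0x162190b6ee7a5e99e6d4901852e99e6d4901852eb9f4d0b458b0ca9725dd2185269ad4c140d3109492587808033628f3ce6a8393c5397d402ecf6,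
  ub 3 0x1f5c7b10439b14484f603c181bd86e6039d8⟩

/-- a table on a segment -/
noncomputable def dI2040_M_1 : Dyn := ⟨10294, 2941, 0x60bfd16d21f509b498f402692da0af44b68e4026b2da0ae44b68d402684ba4efdc31ab26c591d94a548ae0bf124c979a1f4224c36ee52013aaf5fd049b3a329418a3d07a8c2661d72a72086cc, 0x9cb7342539e350e8e63484bda861c8f17e63484bda861c8f17ef2cc435b861c8f1f66f7c09a98acac1336a7a36f78041007378ffc00efeb78e9723e9fd320298d08013da95a870fd0df11941,
  ub 3 0x25d4985033b318505f702df4209081f02c3c⟩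

/-- a table on a segment -/
noncomputable def dI2280_M_1 : Dyn := ⟨9210, 2632, 0x85d43705d1b5ba2028e782bc8ba2e4245ded71782bc8ba2e4245ded7bac28c8bb0d4065dae35786b34b5c4e6e5b8021781f53b6fc664322d5895ab3409fcd0c48cdd6f84ae0a1ada6f86e380288c1028ca71e116a81, 0x70e7931976c469b217e8d186ca68933964ce818d106ca68933964ce819cac1db08a3762c08e18c5bd2af8dd49fccd8e2988e09c82b4f70eb144cb62605e13386c4108fdaf4888c6d6bf0e9418d74419d86a754406f9,
  ub 3 0x28cca1802e421d1474a0291e25888f502793⟩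

theorem segM_1 : (okJ gM_1 jP60 dP60_M_1 && okJ gM_1 jI60 dI60_M_1 && okJ gM_1 jI120 dI120_M_1 && okJ gM_1 jI840 dI840_M_1 && okJ gM_1 jI1320 dI1320_M_1 && okJ gM_1 jI1560 dI1560_M_1 && okJ gM_1 jI2040 dI2040_M_1 && okJ gM_1 jI2280 dI2280_M_1) = true := by
  decide +kernel

/-- a segment -/
def gM_7 : Seg := ⟨699924, 200076, 7, lp, lm⟩

/-- a table on a segment -/
noncomputable def dP60_M_7 : Dyn := ⟨350000, 100000, 0x2598a, 0x2524f,
  ub 3 0x1dc077dbba0018c05dc350001ec06fbbfd0⟩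

/-- a table on a segment -/
noncomputable def dI60_M_7 : Dyn := ⟨350000, 100000, 0x25641, 0xfce6,
  ub 3 0x2a00a86ddd0023808e61a8002680945dfe8⟩

/-- a table on a segment -/
noncomputable def dI120_M_7 : Dyn := ⟨175000, 50000, 0xb44047da4, 0xfffb5fe2,
  ub 3 0x4e814936ee8042c11430d4005301252eff4⟩

/-- a table on a segment -/
noncomputable def dI840_M_7 : Dyn := ⟨25000, 7142, 0x40bb47cbd40b02bd48b02ad50142356130e18228181cda358987a71a71f2f5a, 0xc018f223de305c3ce305c7d6a05c7992850b1ebf5c9da92589c50c7664ea56c,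
  ub 3 0x14cc4d107d8e0c2830806f9b12604b706b6c⟩

/-- a table on a segment -/
noncomputable def dI1320_M_7 : Dyn := ⟨15909, 4545, 0x63f20a5c897940cf583728940cf5837285418c98253877b6b58aa2e907c9354a2517d8f1cad0b46562d03e2336f4abd32aa, 0xa76851874af5096ae58b105096ae18b10179ca658790123c65c2998a48a62c500fc1207717188729cd84290253bcbcd59b7,
  ub 3 0x1a6c6c204fe6114449b047051a5069c0445c⟩

/-- a table on a segment -/
noncomputable def dI1560_M_7 : Dyn := ⟨13461, 3846, 0xf0d71d41a62e20728a2bc59c1d072882bc59c1d07e8a33c08897906f2e3d4368bd352a2c991a2dd40fb2bcbf411d6820d8c0268e60e724e15d8bd, 0x20b82d0db3e3dd74792f04c0c2d74792f04c0c25147b2f545cc20242b0c14ccda13a48cb1dc24e57801bb1e48cbe06d81606c6ecc0880b8d63e6a,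
  ub 3 0x1ec07da0439b14044dc03c181cc46f7039d8⟩

/-- a table on a segment -/
noncomputable def dI2040_M_7 : Dyn := ⟨10294, 2941, 0xd31caae3cab1560a02cc3550c3546a9f1f2cc3550c3546a9f1fe5c396802586f1d16951191cff767b76135c40ad43cad4e8f15c4caa804e273c5639b943f7c5f9c5d649d4aca7e0e0307b2827, 0x8e403f8788679b397719fc068779064c28719fc068779064c28719fc42947b024c24e09cb06a24d16d50b8914da4cf9b0304875a59186af2c4694929cc76c6011120fe3d02807f2015d704600,
  ub 3 0x23a4911033b3186c68902df420e881102c3c⟩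

/-- a table on a segment -/
noncomputable def dI2280_M_7 : Dyn := ⟨9210, 2632, 0x15c16a15f432fa5ca4fe83e95aa0bc505a25bfe93695aa0b850da25b2f91c95ae33e121a24dbe866d29a7fc0c6a0ebb98dd969772e77eca7b7082cf9a50ee3b2026b8657d332b2c866536bae8dd0ea23e4526faae2, 0xf34d64930ab15a8dcbd0c929b68f54e25722420c929b68754e25722422a9ede58e50a0de326295515ba9d0ee216202c1c80aaa3c3500671a40718155b345f1149d6a88f081342b667130b8fbfb4121538eee63416a7,
  ub 3 0x2930a2202e421b947540291e23fc8c702793⟩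

theorem segM_7 : (okJ gM_7 jP60 dP60_M_7 && okJ gM_7 jI60 dI60_M_7 && okJ gM_7 jI120 dI120_M_7 && okJ gM_7 jI840 dI840_M_7 && okJ gM_7 jI1320 dI1320_M_7 && okJ gM_7 jI1560 dI1560_M_7 && okJ gM_7 jI2040 dI2040_M_7 && okJ gM_7 jI2280 dI2280_M_7) = true := by
  decide +kernel

/-- a segment -/
def gM_11 : Seg := ⟨699924, 200076, 11, lp, lm⟩

/-- a table on a segment -/
noncomputable def dP60_M_11 : Dyn := ⟨350000, 100000, 0x30123, 0x1ac3f,
  ub 3 0x214089dbba001d407ac350001ec093bbfd0⟩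

/-- a table on a segment -/
noncomputable def dI60_M_11 : Dyn := ⟨350000, 100000, 0x30238, 0x1a327,
  ub 3 0x2880956ddd0021809a61a80038c09c5dfe8⟩

/-- a table on a segment -/
noncomputable def dI120_M_11 : Dyn := ⟨175000, 50000, 0xc333fa21f, 0x5aaa8171c,
  ub 3 0x4a811836ee803fc0d730d4005741482eff4⟩

/-- a table on a segment -/
noncomputable def dI840_M_11 : Dyn := ⟨25000, 7142, 0x2f7ac879004358902435890440189324d89851684a3b528c8bb5ad92385c1da, 0x811461a3e6a9c53e68bc53e2edd1234a95ebc7448e9e22a0cab60045a46e310,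
  ub 3 0x143c51307d8e0cb835d06f9b12d04ee06b6c⟩

/-- a table on a segment -/
noncomputable def dI1320_M_11 : Dyn := ⟨15909, 4545, 0x2197f3e8016de4808177e8de4808157e8ce48b95f7e855cc08b358a7c500a636503cdce8654286412e0d21323046f98e1cc, 0xb81a60973f647c59b6840847c59b4840cd6c149280289754b2f5584e210ba2a25eeb17139b0364f1ae0bd59891909ab81b2,
  ub 3 0x1e046e704fe611e44ee0470519186270445c⟩

/-- a table on a segment -/
noncomputable def dI1560_M_11 : Dyn := ⟨13461, 3846, 0x7b684d60fff098097929e000768097929e000769094869c0086e2097032888712286f5b9e65350483b46d6c6446f2579e8a64d36523090b4ed511, 0xf256d08a5a03d09a90f74a5f4209a90f74a5d422bb9c370a5662d8cb8f84a4b154185d7341c12d7909916e2a565c0ffd09a36d37090b4d3e4c709,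
  ub 3 0x1e6c7ed0439b142054003c181ba06cd039d8⟩

/-- a table on a segment -/
noncomputable def dI2040_M_11 : Dyn := ⟨10294, 2941, 0x1ca56f1afccfb6317e31a90c5032049c68e31a90c5032049c686d0a74c400a009c68671b988ba124a501a830e15dd578500813629fdadd4cc36bf7f40a9a090224aaec7028925953bf4e38e3c, 0xab9b2b0d244902f195424d4d2dba6fd066d424d4d2dba6fd066641c9452df0dff466320c56d091245055f0f373493daaeab07cc0b5500f0e03c5c246e2bae1a7ae77e7756d2848c464863814e,
  ub 3 0x243094f033b317fc64d02df4200083802c3c⟩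

/-- a table on a segment -/
noncomputable def dI2280_M_11 : Dyn := ⟨9210, 2632, 0x7cd8a5ef94003f0d3b803274a1069ffc0b2c4703274a1069fe80b2c471165cab0287bc8b2647777e4c75d5aff812949479e2613846e0f32edf06d86dbc71c4d7935954025ecc561ff40b1c587f976c06c82a2e1b5bc, 0x7d1402d51e29daf4f2782eafd2ac1d6210b0d782eafd2ac1d6210b0d6e2e864aa8996b92c0d2d340f52395920330dd40bde27ae1f2ffa998f40d5cb0f0c571725775283a4f33110751921a12aa3aeb35529a51f15f,
  ub 3 0x279c99c02e421bb06eb0291e242c97602793⟩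

theorem segM_11 : (okJ gM_11 jP60 dP60_M_11 && okJ gM_11 jI60 dI60_M_11 && okJ gM_11 jI120 dI120_M_11 && okJ gM_11 jI840 dI840_M_11 && okJ gM_11 jI1320 dI1320_M_11 && okJ gM_11 jI1560 dI1560_M_11 && okJ gM_11 jI2040 dI2040_M_11 && okJ gM_11 jI2280 dI2280_M_11) = true := by
  decide +kernel

/-- a segment -/
def gM_13 : Seg := ⟨699924, 200076, 13, lp, lm⟩

/-- a table on a segment -/
noncomputable def dP60_M_13 : Dyn := ⟨350000, 100000, 0x25267, 0x25150,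
  ub 3 0x228083dbba001a4064c350001fc073bbfd0⟩

/-- a table on a segment -/
noncomputable def dI60_M_13 : Dyn := ⟨350000, 100000, 0x2536b, 0x1aa36,
  ub 3 0x33c0ca6ddd002c80b161a80033c0af5dfe8⟩

/-- a table on a segment -/
noncomputable def dI120_M_13 : Dyn := ⟨175000, 50000, 0xb4054ad2c, 0x3cc958eb8,
  ub 3 0x53411d36ee8041811a30d4005c01292eff4⟩

/-- a table on a segment -/
noncomputable def dI840_M_13 : Dyn := ⟨25000, 7142, 0x951b2ab4aa454448a45445b956005aa404942b85ac06334cd8fb568dc60c68f, 0x8925502569a2ed569a6eddab82ad4b8736dda3f287831e4e58a1e1ebc3aa362,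
  ub 3 0x14c455f07d8e0da438006f9b107444406b6c⟩

/-- a table on a segment -/
noncomputable def dI1320_M_13 : Dyn := ⟨15909, 4545, 0xd751ac23a9a08aa535c46508aa535c465828ad35a44101f9d644224596a726f23449883679a1d097309668dc48dacc1aaa3, 0x179b022fc07c860fd502f8c860fd502f88d68e9482f45a617f106f1cc28137fe8319d0f123a5ad4089924add0508206ac98,
  ub 3 0x1b406b004fe610c843104705190c64f0445c⟩

/-- a table on a segment -/
noncomputable def dI1560_M_13 : Dyn := ⟨13461, 3846, 0xdf63d819b528e209427a648d70209427a648d72288424b6181704311c7a3408f4ae32dba3cc84aa48029821117890e52d87d933861872fa1cd6ea, 0x11d629afb0b6cee21d6104d492ee21d6100d492ef0104346d5d23e119c904da5ae4376e31ac574eca20b03005562df53022cdcbc05b5f72ce0eae,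
  ub 3 0x1fb87c20439b12c04b003c181bf46e3039d8⟩

/-- a table on a segment -/
noncomputable def dI2040_M_13 : Dyn := ⟨10294, 2941, 0x435a9fc48f4c2942d3ca5203b50b3c6bd238a5203b5033c6bd234a9293b53b3e5bd276e480f148a30a8f61ada2032caf7e7fc22424139a1d128e3f80bbf1c4cd34929eb0219a34d3c389a0bea, 0x1113967c46aecca1a6eec29839951235e54eec29839971235e575d4a91319d1236ad24e12ff59b1b8b0976ee193ca4691865c32e2e8a8c1dbe2ea4134048b7309922b5ef45a411099af3a5e39,
  ub 3 0x2578971033b3183c62c02df420cc86902c3c⟩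

/-- a table on a segment -/
noncomputable def dI2280_M_13 : Dyn := ⟨9210, 2632, 0x9f29d8703186c21e2c360d4278f8e7935e1d2c60d4274f8e7934e1d24d8dd21baac71b1b7f6ea28877869b89d6ff229c145301bb746255840f213dd2389bdc65e2929655d411c2755d7ee4e1c815544d246b80c9e41, 0xd244df11b8afc5a25e82db920ee0750325da072db920ee0750325db07051822e606b13279a274c7160e9065d04fbb852f21970b1fffc0b0260bf68b2453c17105aceafeac8c5796174046a8660f84cefbed05016749,
  ub 3 0x2b24abb02e421b686d70291e265495f02793⟩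

theorem segM_13 : (okJ gM_13 jP60 dP60_M_13 && okJ gM_13 jI60 dI60_M_13 && okJ gM_13 jI120 dI120_M_13 && okJ gM_13 jI840 dI840_M_13 && okJ gM_13 jI1320 dI1320_M_13 && okJ gM_13 jI1560 dI1560_M_13 && okJ gM_13 jI2040 dI2040_M_13 && okJ gM_13 jI2280 dI2280_M_13) = true := by
  decide +kernel

/-- a segment -/
def gM_17 : Seg := ⟨699924, 200076, 17, lp, lm⟩

/-- a table on a segment -/
noncomputable def dP60_M_17 : Dyn := ⟨350000, 100000, 0x25cea, 0x25a7f,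
  ub 3 0x1e0076dbba001b8058c350001c806abbfd0⟩

/-- a table on a segment -/
noncomputable def dI60_M_17 : Dyn := ⟨350000, 100000, 0x1abbf, 0x2554c,
  ub 3 0x2bc0a36ddd0024408261a8002500905dfe8⟩

/-- a table on a segment -/
noncomputable def dI120_M_17 : Dyn := ⟨175000, 50000, 0x966d32636, 0x966666a4a,
  ub 3 0x50812c36ee8045810230d4004ac1182eff4⟩

/-- a table on a segment -/
noncomputable def dI840_M_17 : Dyn := ⟨25000, 7142, 0x57c0042a02fdb9b0afdb9c22cd33834a159f5a89fb202483936200b3264f969, 0x6a3c53f14c1a8f14e188e14d1aa15c05aa8585cb8b26e9aaa1ea1e3a42a8f9,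
  ub 3 0x132c54f07d8e0da835d06f9b11d849206b6c⟩

/-- a table on a segment -/
noncomputable def dI1320_M_17 : Dyn := ⟨15909, 4545, 0xf57d0011c930a02efec3682a02ebec368ce03edac278496aec4cb418b0be69049b04028494670814de1c44f1311827fd202, 0x943ec3c504a6b412c38fb16b412c38fb168612f3c3b3330fcc1cf5907452879a9b0321803dcea9c37a6592017212a529c58,
  ub 3 0x1b006a604fe6136048c0470519b462f0445c⟩

/-- a table on a segment -/
noncomputable def dI1560_M_17 : Dyn := ⟨13461, 3846, 0x2529f093a487d5ad20f4c5a7825ad20f4c5a78279d28f0d12e3a45784153d85461f83ce884e2c550917a44369317818f886a45f01c6851dcd0d25, 0x2478ba58c8f525b834587360ad5b834587360ad1bf30505267ad4af80497f00ba53926ed5d43cc1d3bd7cc8c6ed3190e215544920882bfc8425a0,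
  ub 3 0x20d083a0439b163856003c181bdc6ec039d8⟩

/-- a table on a segment -/
noncomputable def dI2040_M_17 : Dyn := ⟨10294, 2941, 0x1d573d559c0810aeee2a842aa23f7cf510e2a8422a23ffcf510e2ad5aeea2c29bf30ecf8021010f31620ad7151c4d359e0d7a4628a01c7a2d4473b6e27b741c36655d81ccea8565b3c6b416e6, 0xdb161fc081be8d05a24e9603f3e4152fa424e9603f3e4152fa42cfc72a92e9752f34a6e24c76162184724a4e760be92119a3925767377c02594f8e4f4242252182b88af2f2e46bd1807357dd6,
  ub 3 0x28749cb033b3194061f02df423f08d402c3c⟩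

/-- a table on a segment -/
noncomputable def dI2280_M_17 : Dyn := ⟨9210, 2632, 0x5946cf7a3c96b685c1f26b92085c169493a3ef26b92085e169491a3e772992085492be0ba3b04c330e2bc1d979203dd47eccd29b43a9b13342279f6d8d6d50051eafb3b860f647d2b6f3a57f10c8883845ec871f38, 0xd77bde025d0e1082fd8208420fda2d1ef790272084a0fda2d1ef7902710a160f8a0936779066243f264cf28afab802b34cf6461525543525af02cfd62124dca79922273769e007ac1d64838026a98039f9cf98b3fcf,
  ub 3 0x28809f802e421ab867c0291e227893602793⟩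

theorem segM_17 : (okJ gM_17 jP60 dP60_M_17 && okJ gM_17 jI60 dI60_M_17 && okJ gM_17 jI120 dI120_M_17 && okJ gM_17 jI840 dI840_M_17 && okJ gM_17 jI1320 dI1320_M_17 && okJ gM_17 jI1560 dI1560_M_17 && okJ gM_17 jI2040 dI2040_M_17 && okJ gM_17 jI2280 dI2280_M_17) = true := by
  decide +kernel

/-- a segment -/
def gM_19 : Seg := ⟨699924, 200076, 19, lp, lm⟩

/-- a table on a segment -/
noncomputable def dP60_M_19 : Dyn := ⟨350000, 100000, 0x1ab72, 0x1a3e3,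
  ub 3 0x20c092dbba001a806bc3500027008bbbfd0⟩

/-- a table on a segment -/
noncomputable def dI60_M_19 : Dyn := ⟨350000, 100000, 0x25d47, 0x1a83f,
  ub 3 0x2f00ce6ddd002b80a761a80031c0b25dfe8⟩

/-- a table on a segment -/
noncomputable def dI120_M_19 : Dyn := ⟨175000, 50000, 0x699b98de6, 0x4bbb3f636,
  ub 3 0x5ac14636ee8048410c30d4005081342eff4⟩

/-- a table on a segment -/
noncomputable def dI840_M_19 : Dyn := ⟨25000, 7142, 0xe2f624d1901cb01901c309b8049003e1291e304e4810b02741143011eae78a4, 0x1f70a0fa00e5dfa04e5df882c1d73324142335205e847a58f830ca16a10094,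
  ub 3 0x159056307d8e0cd435006f9b138449506b6c⟩

/-- a table on a segment -/
noncomputable def dI1320_M_19 : Dyn := ⟨15909, 4545, 0x35eb25428b24a04d8bd34d4a04d8bd34d4b0dccb93c423c6f98d1760b6d60203943d899c442bb57ec08fb0fd41c1d4d5294, 0x74cbd47c8030b2429833fc0b2429833fc532029abb1c6f0cb0560f44a4e99720e10cc968af81b258ba12a813204ca4143eb,
  ub 3 0x1d7877704fe6141c4c40470516ac6110445c⟩

/-- a table on a segment -/
noncomputable def dI1560_M_19 : Dyn := ⟨13461, 3846, 0x2e656068fa87fc19a1f930558fc19a1f930558d4b1a1fd10518fce9f029b27dd2c1e65d92b2478818241b2391aeaddb1930194e343fc75107e9f, 0xec4995232db4612b662dc9249912b662dc920991ef6c2dc364993265a069b8d906642d344210542a7c7357964d84c3ef16f049027c3b54a53da12,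
  ub 3 0x1fa07a90439b142c52903c18198c67c039d8⟩

/-- a table on a segment -/
noncomputable def dI2040_M_19 : Dyn := ⟨10294, 2941, 0x6460fb454abb590269a9f043ab504a6dd99a9d043ab504a6dd998bb1e3af482e2df99e7f4933843106998bc66c456cb3485d55f21dd31bb797371b13cc804326ea8d958d6cb7854bd41f284a3, 0x18e11a09e037bf454e61ee5761f88409abe61ee5761f88409abe69ec7661b1d284cfb62a21648fac50cfb06b1c77a3a120606f88901752a72cc9d3a5e537269e983ae14332aa4d5964117b57b,
  ub 3 0x2780a11033b3184865102df4215881102c3c⟩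

/-- a table on a segment -/
noncomputable def dI2280_M_19 : Dyn := ⟨9210, 2632, 0xe20b823ef9be513ea401df45dc10241ae415be1df45dc10241af415be14eadac00053bc4157c495e5595ca6f8a3d1d67874d25a12e5fe21ee42d13c4be807f0a7106e5fc405abc378d11e7c6e88201ac715584262a0, 0xbe7d94a1382656094b041824b5ec3d9a976b4e41824b5ec3d9a976b4e6184ddfc61490876be617a24a17d819bb27b869e6e4d6bb15ac05a11ac3e653dbd96b6e50c06268dcd1e0328b74d1b00ba6538319daeb24382,
  ub 3 0x29009cd02e421a686880291e23bc93c02793⟩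

theorem segM_19 : (okJ gM_19 jP60 dP60_M_19 && okJ gM_19 jI60 dI60_M_19 && okJ gM_19 jI120 dI120_M_19 && okJ gM_19 jI840 dI840_M_19 && okJ gM_19 jI1320 dI1320_M_19 && okJ gM_19 jI1560 dI1560_M_19 && okJ gM_19 jI2040 dI2040_M_19 && okJ gM_19 jI2280 dI2280_M_19) = true := by
  decide +kernel

/-- a segment -/
def gM_23 : Seg := ⟨699924, 200076, 23, lp, lm⟩

/-- a table on a segment -/
noncomputable def dP60_M_23 : Dyn := ⟨350000, 100000, 0x25716, 0x25e26,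
  ub 3 0x1e0069dbba001b8064c35000208091bbfd0⟩

/-- a table on a segment -/
noncomputable def dI60_M_23 : Dyn := ⟨350000, 100000, 0x3021b, 0x1a8e6,
  ub 3 0x2980936ddd0025009761a8002e40c35dfe8⟩

/-- a table on a segment -/
noncomputable def dI120_M_23 : Dyn := ⟨175000, 50000, 0xb44435079, 0xd220ac0b8,
  ub 3 0x53415a36ee804100ea30d4004f012b2eff4⟩

/-- a table on a segment -/
noncomputable def dI840_M_23 : Dyn := ⟨25000, 7142, 0x6e9058f106da30106da30487c0103084c3b28b4bb33678abe327872214581ae, 0x345c9aa4aa16154aa161542b10354c19c85688d60b7c5043126f959820ec5b3,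
  ub 3 0x156050f07d8e0ce42f706f9b104443f06b6c⟩

/-- a table on a segment -/
noncomputable def dI1320_M_23 : Dyn := ⟨15909, 4545, 0xb8c63b56701453984a18ee4d3984a18ea416985249eeccdb1603aad34363927800046aa2a0ca219948c21c2de03702a798c, 0xd9b502d12a1244abd26d4e244abc26d4e047abd66d4e690d240796e6cf38d64b0e2946b9b6e84788c1ed306928c298a22e5,
  ub 3 0x1c3c75304fe612284a10470519646460445c⟩

/-- a table on a segment -/
noncomputable def dI1560_M_23 : Dyn := ⟨13461, 3846, 0x3d68081795b25c217f3e84a4cac217f3e84a4cac24772e8dfee2600993ea88c26983481fb542ced11582551c7c60a2d101b01fc55d7123c11be06, 0x883ff397410c9774008689ef26774008e89ef266740097c9eea434724a409c168ba07894e0490f253d836f5f1ca190c32ef52303fb198947c0a60,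
  ub 3 0x1ce473d0439b13bc52b03c181afc6bc039d8⟩

/-- a table on a segment -/
noncomputable def dI2040_M_23 : Dyn := ⟨10294, 2941, 0x69eda869a3195ca1f941256965c66a31e0949256165c66a316034125ebe5c44a72b49c60d6db7426b0081d03562550656a0b498d1af2c94a0a572d189045e7c7333ff83aed4fc2fc8b71453cd, 0x29784c9c7309a412ad487b2638c765bad5d487b2631c72dbad574c7cad3d4761dadf800d9a64e83687ab3c543f241a57f9eb4af5a5c259dc5f42306c935306d1a69a22929993fe42932c59afe,
  ub 3 0x2824a64033b319986a502df422a88a902c3c⟩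

/-- a table on a segment -/
noncomputable def dI2280_M_23 : Dyn := ⟨9210, 2632, 0xd46706fcb8dc63f06ff2398f80347039c0b90f2399f8034703980b90de3bda2231d13a48191373806882238b144a09960b8c0c279cd59f005c130098213ec3be1afd0d4c204eb454a079aeb1c7dbf0496c4462926c, 0x157fa2e8cd2cc1d72ccea005d0732d13e28933aa025d0732d13e28933c2107d0431d036289536c04f3a7bb9087f69539b5ad6e9acb9173e0aa2b5d01aa5d81a1461f5421003abbad9e6382b72f79ad8b18c51cdebf1,
  ub 3 0x2a94a5202e421b846b80291e24c892302793⟩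

theorem segM_23 : (okJ gM_23 jP60 dP60_M_23 && okJ gM_23 jI60 dI60_M_23 && okJ gM_23 jI120 dI120_M_23 && okJ gM_23 jI840 dI840_M_23 && okJ gM_23 jI1320 dI1320_M_23 && okJ gM_23 jI1560 dI1560_M_23 && okJ gM_23 jI2040 dI2040_M_23 && okJ gM_23 jI2280 dI2280_M_23) = true := by
  decide +kernel

/-- a segment -/
def gM_29 : Seg := ⟨699924, 200076, 29, lp, lm⟩

/-- a table on a segment -/
noncomputable def dP60_M_29 : Dyn := ⟨350000, 100000, 0x1aa1b, 0x1a6f3,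
  ub 3 0x220087dbba00194081c350001fc087bbfd0⟩

/-- a table on a segment -/
noncomputable def dI60_M_29 : Dyn := ⟨350000, 100000, 0x250e3, 0x1a6c8,
  ub 3 0x2d80966ddd002480b161a80025c0965dfe8⟩

/-- a table on a segment -/
noncomputable def dI120_M_29 : Dyn := ⟨175000, 50000, 0xa55158d0c, 0x1efcaaed0,
  ub 3 0x5cc15c36ee803d410830d4003c813b2eff4⟩

/-- a table on a segment -/
noncomputable def dI840_M_29 : Dyn := ⟨25000, 7142, 0x678e83588513c288113c2add0092a245af64e192e4280d3864f0b890c5c1370, 0x415aba1ae85056aa850544fd8966a683953c653b7564092c585c59f62505084,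
  ub 3 0x159857d07d8e0d4c3a006f9b12e449c06b6c⟩

/-- a table on a segment -/
noncomputable def dI1320_M_29 : Dyn := ⟨15909, 4545, 0x861a0d83a0f71e4f25c5b071a4f25c5b07146da5c5b87768fe4d59595ee31561820620c29f622f0d2fa029bda3b09ad6f1a, 0xa2d87258fa155268d8701e55268d8501e55c6cd8711b60a209873161732c61d12b4584c38699735d025d1f04a27670c7d3e,
  ub 3 0x1ac468904fe611fc4470470517105bf0445c⟩

/-- a table on a segment -/
noncomputable def dI1560_M_29 : Dyn := ⟨13461, 3846, 0xc8d7678c983be3720983365c4e3720983365c4a3720183165e4e6393bb0f45240f267159d99abea1a1c23c0c3de61a770b74dd480c944f2dfd80, 0x6f4115e12ad2c80be6a1ad50d380be2a1ad50d389f37a90150f2cead63fbcc41f8b9a6048e7194cc3c3cf97f04f8fbf79728791a0d263028fc097,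
  ub 3 0x205480f0439b128c4fe03c181cd06ee039d8⟩

/-- a table on a segment -/
noncomputable def dI2040_M_29 : Dyn := ⟨10294, 2941, 0x81427c80c9aa83df67eb9837d36547c2017eb9837d36547c22154b9a32477547d681b0e39dd91630aa345bb1ad75cd36491da1d6aa3f4894f0000056e7ad3818bea8f6a1fec2e3357788c2966, 0x98b13f650dd8f8a31674ac098f226075c6674ac09cf226075c66f09c118c264e55c63742118412ba021e2ea709b956926ae107cc99e334fa26bfe10e8fa6f883708509e38fb2739d1f46d1c17,
  ub 3 0x2828a53033b31b546ee02df420bc86502c3c⟩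

/-- a table on a segment -/
noncomputable def dI2280_M_29 : Dyn := ⟨9210, 2632, 0x5a43d12c061344bbcb3a5b42ed2f9ec9b4430ca5b42ed2f9ecdb4430ebc24cf16f08a9694b1c8bc688d481b69be322488b39a98d9ed974f4a26f349ac64d5889a3424edb4e2a0dffa93d57aa0b823e3c4accc181126, 0xee35bbcaf45b1910ea211c244340ba4c6ef11d11c244340ba4c6ef51d018205641f84c74931da1934b064b3c907608936f5ae6a35a6d5c0989f9e7f2fcf587930f51d92f764b41fbe4b7eda817e466fcf06f99de82b,
  ub 3 0x27a8ad302e421cf07540291e26bc97402793⟩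

theorem segM_29 : (okJ gM_29 jP60 dP60_M_29 && okJ gM_29 jI60 dI60_M_29 && okJ gM_29 jI120 dI120_M_29 && okJ gM_29 jI840 dI840_M_29 && okJ gM_29 jI1320 dI1320_M_29 && okJ gM_29 jI1560 dI1560_M_29 && okJ gM_29 jI2040 dI2040_M_29 && okJ gM_29 jI2280 dI2280_M_29) = true := by
  decide +kernel

/-- a segment -/
def gN_1 : Seg := ⟨899924, 100076, 1, lp, lm⟩

/-- a table on a segment -/
noncomputable def dP60_N_1 : Dyn := ⟨450000, 50000, 0x1a93c, 0x1abe9,
  ub 1 0x1fc074f4240⟩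

/-- a table on a segment -/
noncomputable def dI60_N_1 : Dyn := ⟨450000, 50000, 0x301d2, 0x30258,
  ub 1 0x26c0b67a120⟩

/-- a table on a segment -/
noncomputable def dI120_N_1 : Dyn := ⟨225000, 25000, 0x3ccf0d552, 0xf000038bf,
  ub 1 0x48011d3d090⟩

/-- a table on a segment -/
noncomputable def dI840_N_1 : Dyn := ⟨32142, 3572, 0x6782314885d8e3885d8f3881f8e7cac4323e5ddbc12794ac6064a9c50a94293, 0xa3dc0504c03ba74c03ba7cc8f2376c49be4668c3146003a378a0da23ad58394,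
  ub 1 0x15b84f208b82⟩

/-- a table on a segment -/
noncomputable def dI1320_N_1 : Dyn := ⟨20454, 2273, 0xc9568dd208534a93225f6a34a93225f6a35ffa202f62a1b0322534b6ce237f762aa13307233cb258900d0c62f83c9ed3342, 0x3c0922859aec1f69d72641c1f69d72641c1ff1f53561f066954628e55f79d74687a808bec43e099c4b240d806dd4073718d,
  ub 1 0x1b98725058c7⟩

/-- a table on a segment -/
noncomputable def dI1560_N_1 : Dyn := ⟨17307, 1923, 0x162190b6ee7a5e99e6d4901852e99e6d4901852eb9f4d0b458b0ca9725dd2185269ad4c140d3109492587808033628f3ce6a8393c5397d402ecf6, 0xbaba0579c3f364505f8862c0c1450578862c0c14504f8c6a40c00980d1c2ed7a3b5b4d1dc4e080d713a00e876b3418be5b0c060461a73d1620966,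
  ub 1 0x1d9c7b004b1e⟩

/-- a table on a segment -/
noncomputable def dI2040_N_1 : Dyn := ⟨13235, 1470, 0x9cb7342539e350e8e63484bda861c8f17e63484bda861c8f17ef2cc435b861c8f1f66f7c09a98acac1336a7a36f78041007378ffc00efeb78e9723e9fd320298d08013da95a870fd0df11941, 0x223293e7cad650958cdcd64183129ad6a7cdcd64183129ad6a7cdcda499712bb9667cf8e56529220098a3a59354085b35d94258172a436f228382a8c43f03d2ebf5e42ec61bd23cc41a104539,
  ub 1 0x253c94d03971⟩

/-- a table on a segment -/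
noncomputable def dI2280_N_1 : Dyn := ⟨11842, 1315, 0x70e7931976c469b217e8d186ca68933964ce818d106ca68933964ce819cac1db08a3762c08e18c5bd2af8dd49fccd8e2988e09c82b4f70eb144cb62605e13386c4108fdaf4888c6d6bf0e9418d74419d86a754406f9, 0xec4ca01a32f5f9f2db711b35fa5cd02060c24811b34fa5cd02060c2485131d52ce3020614149988b9f874c2704eeeca01f05b95a8826ca800af0bf4b2d95a65dce3fe9088200643027e3ae8c60c076a97490e0b49cb,
  ub 1 0x2b58a9e03365⟩

theorem segN_1 : (okJ gN_1 jP60 dP60_N_1 && okJ gN_1 jI60 dI60_N_1 && okJ gN_1 jI120 dI120_N_1 && okJ gN_1 jI840 dI840_N_1 && okJ gN_1 jI1320 dI1320_N_1 && okJ gN_1 jI1560 dI1560_N_1 && okJ gN_1 jI2040 dI2040_N_1 && okJ gN_1 jI2280 dI2280_N_1) = true := by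
  decide +kernel

/-- a segment -/
def gN_7 : Seg := ⟨899924, 100076, 7, lp, lm⟩

/-- a table on a segment -/
noncomputable def dP60_N_7 : Dyn := ⟨450000, 50000, 0x2524f, 0x24d7f,
  ub 1 0x21c074f4240⟩

/-- a table on a segment -/
noncomputable def dI60_N_7 : Dyn := ⟨450000, 50000, 0xfce6, 0x255ea,
  ub 1 0x3180b97a120⟩

/-- a table on a segment -/
noncomputable def dI120_N_7 : Dyn := ⟨225000, 25000, 0xfffb5fe2, 0x699b07c67,
  ub 1 0x50812a3d090⟩

/-- a table on a segment -/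
noncomputable def dI840_N_7 : Dyn := ⟨32142, 3572, 0xc018f223de305c3ce305c7d6a05c7992850b1ebf5c9da92589c50c7664ea56c, 0x94d28466929738692973849f872240a967a31e1d1e70e3234fca9468e9b102a,
  ub 1 0x13684d508b82⟩

/-- a table on a segment -/
noncomputable def dI1320_N_7 : Dyn := ⟨20454, 2273, 0xa76851874af5096ae58b105096ae18b10179ca658790123c65c2998a48a62c500fc1207717188729cd84290253bcbcd59b7, 0xe5b6984b6311248679498e1248679498e4064639cba816d8705488ba2e8275608f33781bc94bca3c8be5f13245b801c6139,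
  ub 1 0x1cfc72a058c7⟩

/-- a table on a segment -/
noncomputable def dI1560_N_7 : Dyn := ⟨17307, 1923, 0x20b82d0db3e3dd74792f04c0c2d74792f04c0c25147b2f545cc20242b0c14ccda13a48cb1dc24e57801bb1e48cbe06d81606c6ecc0880b8d63e6a, 0xd39fa6495e242246019b4a1cbd246019f4a1cbd840113b4e883f367413858be7033c0280c008ecb52f17b926cd070c51f00232e7f1831e3d54aa5,
  ub 1 0x1f5c81504b1e⟩

/-- a table on a segment -/
noncomputable def dI2040_N_7 : Dyn := ⟨13235, 1470, 0x8e403f8788679b397719fc068779064c28719fc068779064c28719fc42947b024c24e09cb06a24d16d50b8914da4cf9b0304875a59186af2c4694929cc76c6011120fe3d02807f2015d704600, 0xc80d99ee17e13493737d26601e816cb68837d26641e816cb6882f1364208516c272ce306be2fe9142b2a03f933f89a227ca0329b81f50ee8c49ec9b70d8d08bba478d6a3170830440ed40511d,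
  ub 1 0x282495a03971⟩

/-- a table on a segment -/
noncomputable def dI2280_N_7 : Dyn := ⟨11842, 1315, 0xf34d64930ab15a8dcbd0c929b68f54e25722420c929b68754e25722422a9ede58e50a0de326295515ba9d0ee216202c1c80aaa3c3500671a40718155b345f1149d6a88f081342b667130b8fbfb4121538eee63416a7, 0xfbd34390f96e18d0a46040cbc6b0691672f4b9040cfc6b0691672f4b90e54bca326d17209cf9140ba85b471e32b40a8a78c1082e59369c02512799de81ff5f40cd42b009502a30da366004f9ed0fc431af1d473584d,
  ub 1 0x2958aad03365⟩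

theorem segN_7 : (okJ gN_7 jP60 dP60_N_7 && okJ gN_7 jI60 dI60_N_7 && okJ gN_7 jI120 dI120_N_7 && okJ gN_7 jI840 dI840_N_7 && okJ gN_7 jI1320 dI1320_N_7 && okJ gN_7 jI1560 dI1560_N_7 && okJ gN_7 jI2040 dI2040_N_7 && okJ gN_7 jI2280 dI2280_N_7) = true := by
  decide +kernel

/-- a segment -/
def gN_11 : Seg := ⟨899924, 100076, 11, lp, lm⟩

/-- a table on a segment -/
noncomputable def dP60_N_11 : Dyn := ⟨450000, 50000, 0x1ac3f, 0xffd0,
  ub 1 0x1f007ff4240⟩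

/-- a table on a segment -/
noncomputable def dI60_N_11 : Dyn := ⟨450000, 50000, 0x1a327, 0x251df,
  ub 1 0x2ec0ad7a120⟩

/-- a table on a segment -/
noncomputable def dI120_N_11 : Dyn := ⟨225000, 25000, 0x5aaa8171c, 0x8777b643c,
  ub 1 0x4a412e3d090⟩

/-- a table on a segment -/
noncomputable def dI840_N_11 : Dyn := ⟨32142, 3572, 0x811461a3e6a9c53e68bc53e2edd1234a95ebc7448e9e22a0cab60045a46e310, 0x867ef1039000cf390004f23084cd2a7888e1c2af18a15c494065064812405cf,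
  ub 1 0x150057108b82⟩

/-- a table on a segment -/
noncomputable def dI1320_N_11 : Dyn := ⟨20454, 2273, 0xb81a60973f647c59b6840847c59b4840cd6c149280289754b2f5584e210ba2a25eeb17139b0364f1ae0bd59891909ab81b2, 0x1ace8385508e511787a2f6e591787a2f6f5107a6a2f63501b15c1767317d91a6a21e525a254ee5c5922b82e8c688820b1c6,
  ub 1 0x1c8c753058c7⟩

/-- a table on a segment -/
noncomputable def dI1560_N_11 : Dyn := ⟨17307, 1923, 0xf256d08a5a03d09a90f74a5f4209a90f74a5d422bb9c370a5662d8cb8f84a4b154185d7341c12d7909916e2a565c0ffd09a36d37090b4d3e4c709, 0x180d5d38ecb0be3f282c613474e2f202c613c74ebf69a6651466f17180987a05c20e28b6e5240c5bba06f24bd10122816a82be365a71c3d443b32,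
  ub 1 0x21ec83304b1e⟩

/-- a table on a segment -/
noncomputable def dI2040_N_11 : Dyn := ⟨13235, 1470, 0xab9b2b0d244902f195424d4d2dba6fd066d424d4d2dba6fd066641c9452df0dff466320c56d091245055f0f373493daaeab07cc0b5500f0e03c5c246e2bae1a7ae77e7756d2848c464863814e, 0xc69ba6d10a874ef153924590ef568b106a3924590ef568b106a3834d39ed6e83006af1a14842ee4c9f941452313daaca4b312e4b046890bd2210178f79c5f076e80e327daa0b890c1967b745f,
  ub 1 0x243c90b03971⟩

/-- a table on a segment -/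
noncomputable def dI2280_N_11 : Dyn := ⟨11842, 1315, 0x7d1402d51e29daf4f2782eafd2ac1d6210b0d782eafd2ac1d6210b0d6e2e864aa8996b92c0d2d340f52395920330dd40bde27ae1f2ffa998f40d5cb0f0c571725775283a4f33110751921a12aa3aeb35529a51f15f, 0x448f4f7cd049e3ab1b73b70a0832db61c14e483b7020832db61c14e483bb28d8b2cf65e0020c0b20a1bc95286494ee819492ca1e0381d16c1f7d2da129298eeab0c0d32e32fb9d8015d3c0e057346cb6d8e3bf82d07,
  ub 1 0x29a0aa203365⟩

theorem segN_11 : (okJ gN_11 jP60 dP60_N_11 && okJ gN_11 jI60 dI60_N_11 && okJ gN_11 jI120 dI120_N_11 && okJ gN_11 jI840 dI840_N_11 && okJ gN_11 jI1320 dI1320_N_11 && okJ gN_11 jI1560 dI1560_N_11 && okJ gN_11 jI2040 dI2040_N_11 && okJ gN_11 jI2280 dI2280_N_11) = true := by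
  decide +kernel

/-- a segment -/
def gN_13 : Seg := ⟨899924, 100076, 13, lp, lm⟩

/-- a table on a segment -/
noncomputable def dP60_N_13 : Dyn := ⟨450000, 50000, 0x25150, 0x2535c,
  ub 1 0x204083f4240⟩

/-- a table on a segment -/
noncomputable def dI60_N_13 : Dyn := ⟨450000, 50000, 0x1aa36, 0x2516c,
  ub 1 0x39c0b37a120⟩

/-- a table on a segment -/
noncomputable def dI120_N_13 : Dyn := ⟨225000, 25000, 0x3cc958eb8, 0x8777a57c0,
  ub 1 0x52c15d3d090⟩

/-- a table on a segment -/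
noncomputable def dI840_N_13 : Dyn := ⟨32142, 3572, 0x8925502569a2ed569a6eddab82ad4b8736dda3f287831e4e58a1e1ebc3aa362, 0x482f5a697902499390249879034313ae144d5a320718915689f8a18d9d3560c,
  ub 1 0x13ec49308b82⟩

/-- a table on a segment -/
noncomputable def dI1320_N_13 : Dyn := ⟨20454, 2273, 0x179b022fc07c860fd502f8c860fd502f88d68e9482f45a617f106f1cc28137fe8319d0f123a5ad4089924add0508206ac98, 0xdb716012aa4048a9f6d45b448a9e6d4db16b89f610538c68291145f49c1dd25c225b083367c9645906a594e445a3893cac8,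
  ub 1 0x1c7c733058c7⟩

/-- a table on a segment -/
noncomputable def dI1560_N_13 : Dyn := ⟨17307, 1923, 0x11d629afb0b6cee21d6104d492ee21d6100d492ef0104346d5d23e119c904da5ae4376e31ac574eca20b03005562df53022cdcbc05b5f72ce0eae, 0x86a64ba714c307951b418e93ce7951b418e97ce7971e508e1bda5590b33da038cda433d1828bd4b6d7c4838df069d515929cd2788ee09336ad6d0,
  ub 1 0x216c80104b1e⟩

/-- a table on a segment -/
noncomputable def dI2040_N_13 : Dyn := ⟨13235, 1470, 0x1113967c46aecca1a6eec29839951235e54eec29839971235e575d4a91319d1236ad24e12ff59b1b8b0976ee193ca4691865c32e2e8a8c1dbe2ea4134048b7309922b5ef45a411099af3a5e39, 0x4cc5aa138cbe252f6333a15ec5341cad09333a15e85341cad09133935c457e1e3f1d21db01fc01c5036b375123388c6fd802c31ca611b51802aa961263aae64cf1c8497a5c060b20c6d087917,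
  ub 1 0x283c9aa03971⟩

/-- a table on a segment -/
noncomputable def dI2280_N_13 : Dyn := ⟨11842, 1315, 0xd244df11b8afc5a25e82db920ee0750325da072db920ee0750325db07051822e606b13279a274c7160e9065d04fbb852f21970b1fffc0b0260bf68b2453c17105aceafeac8c5796174046a8660f84cefbed05016749, 0x530c91ef2bc7c7f8429acf16e1094383007bc62cf16e1094383007b86b4f14d829c383006ac4ced0ff12a099b2bbfe7bc6c0874be7c76021822bed35f09a0bb71b4499ff835ae8a7d8757ba2c6d8c5e0b6ef5637229,
  ub 1 0x2790a3503365⟩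

theorem segN_13 : (okJ gN_13 jP60 dP60_N_13 && okJ gN_13 jI60 dI60_N_13 && okJ gN_13 jI120 dI120_N_13 && okJ gN_13 jI840 dI840_N_13 && okJ gN_13 jI1320 dI1320_N_13 && okJ gN_13 jI1560 dI1560_N_13 && okJ gN_13 jI2040 dI2040_N_13 && okJ gN_13 jI2280 dI2280_N_13) = true := by
  decide +kernel

/-- a segment -/
def gN_17 : Seg := ⟨899924, 100076, 17, lp, lm⟩

/-- a table on a segment -/
noncomputable def dP60_N_17 : Dyn := ⟨450000, 50000, 0x25a7f, 0x25390,
  ub 1 0x228085f4240⟩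

/-- a table on a segment -/
noncomputable def dI60_N_17 : Dyn := ⟨450000, 50000, 0x2554c, 0xfac6,
  ub 1 0x2dc0ae7a120⟩

/-- a table on a segment -/
noncomputable def dI120_N_17 : Dyn := ⟨225000, 25000, 0x966666a4a, 0x3cc821a42,
  ub 1 0x4b81173d090⟩

/-- a table on a segment -/
noncomputable def dI840_N_17 : Dyn := ⟨32142, 3572, 0x6a3c53f14c1a8f14e188e14d1aa15c05aa8585cb8b26e9aaa1ea1e3a42a8f9, 0x336f402c4809f944809f9c48a9f9e58188bb0018d29220c114281d48c1c108a,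
  ub 1 0x130c49408b82⟩

/-- a table on a segment -/
noncomputable def dI1320_N_17 : Dyn := ⟨20454, 2273, 0x943ec3c504a6b412c38fb16b412c38fb168612f3c3b3330fcc1cf5907452879a9b0321803dcea9c37a6592017212a529c58, 0x3b6a82a07d2c4156d5d829c4156d55829d714cd9c969c965c61809b402b8014d38e3386750d4816422a3db2824044301bf0,
  ub 1 0x1b786fb058c7⟩

/-- a table on a segment -/
noncomputable def dI1560_N_17 : Dyn := ⟨17307, 1923, 0x2478ba58c8f525b834587360ad5b834587360ad1bf30505267ad4af80497f00ba53926ed5d43cc1d3bd7cc8c6ed3190e215544920882bfc8425a0, 0x38a9e297c406747521d483af9843521d483af9847223d1894fb95490075cb699b3c4b13483c5c43112bf16700f16a18281dde59c5f0b445c78bcd,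
  ub 1 0x1f647b104b1e⟩

/-- a table on a segment -/
noncomputable def dI2040_N_17 : Dyn := ⟨13235, 1470, 0xdb161fc081be8d05a24e9603f3e4152fa424e9603f3e4152fa42cfc72a92e9752f34a6e24c76162184724a4e760be92119a3925767377c02594f8e4f4242252182b88af2f2e46bd1807357dd6, 0x53234e09289d06352acdc31f69762d9cacacdc31f69762c9cac1cdf61bebdeadbd8cc1fc11a7b778550acd13d0a6e0f004cf788bc122d732551ebdcb3b72545bf4554de84b997249300e0d73e,
  ub 1 0x26809fd03971⟩

/-- a table on a segment -/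
noncomputable def dI2280_N_17 : Dyn := ⟨11842, 1315, 0xd77bde025d0e1082fd8208420fda2d1ef790272084a0fda2d1ef7902710a160f8a0936779066243f264cf28afab802b34cf6461525543525af02cfd62124dca79922273769e007ac1d64838026a98039f9cf98b3fcf, 0xa57972c87dc2100a52052868c37821deff1adf52878c37821debf1adf52028c73fa5f6eb3bfdd53fbc3c4488dcf300ea46c80e347c9f22165fc1f19cd09ac8ba10792d4af1e8bad46c8830cc35dbe868e0d541c2dea,
  ub 1 0x287c9eb03365⟩

theorem segN_17 : (okJ gN_17 jP60 dP60_N_17 && okJ gN_17 jI60 dI60_N_17 && okJ gN_17 jI120 dI120_N_17 && okJ gN_17 jI840 dI840_N_17 && okJ gN_17 jI1320 dI1320_N_17 && okJ gN_17 jI1560 dI1560_N_17 && okJ gN_17 jI2040 dI2040_N_17 && okJ gN_17 jI2280 dI2280_N_17) = true := by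
  decide +kernel

/-- a segment -/
def gN_19 : Seg := ⟨899924, 100076, 19, lp, lm⟩

/-- a table on a segment -/
noncomputable def dP60_N_19 : Dyn := ⟨450000, 50000, 0x1a3e3, 0xfdf2,
  ub 1 0x27c092f4240⟩

/-- a table on a segment -/
noncomputable def dI60_N_19 : Dyn := ⟨450000, 50000, 0x1a83f, 0x25696,
  ub 1 0x3000b97a120⟩

/-- a table on a segment -/
noncomputable def dI120_N_19 : Dyn := ⟨225000, 25000, 0x4bbb3f636, 0xc333aa3b2,
  ub 1 0x5201113d090⟩

/-- a table on a segment -/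
noncomputable def dI840_N_19 : Dyn := ⟨32142, 3572, 0x1f70a0fa00e5dfa04e5df882c1d73324142335205e847a58f830ca16a10094, 0x82c4aac79334517933451e13765d20f36e81b03031c385c81b230264f315c91,
  ub 1 0x13e454c08b82⟩

/-- a table on a segment -/
noncomputable def dI1320_N_19 : Dyn := ⟨20454, 2273, 0x74cbd47c8030b2429833fc0b2429833fc532029abb1c6f0cb0560f44a4e99720e10cc968af81b258ba12a813204ca4143eb, 0x87cdcfa7a7f6830301857f683030185354225b09e54f27811a9c852e318a52162489985418f5baeeddd0af1f60f902b01,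
  ub 1 0x1bc4748058c7⟩

/-- a table on a segment -/
noncomputable def dI1560_N_19 : Dyn := ⟨17307, 1923, 0xec4995232db4612b662dc9249912b662dc920991ef6c2dc364993265a069b8d906642d344210542a7c7357964d84c3ef16f049027c3b54a53da12, 0xca86e3df05d9d34791420ba24236791420a82421078106432610a03930f7ba20b86e534203af427cce3512b87c716f156d307ecb1470e2a8aeb97,
  ub 1 0x208483c04b1e⟩

/-- a table on a segment -/
noncomputable def dI2040_N_19 : Dyn := ⟨13235, 1470, 0x18e11a09e037bf454e61ee5761f88409abe61ee5761f88409abe69ec7661b1d284cfb62a21648fac50cfb06b1c77a3a120606f88901752a72cc9d3a5e537269e983ae14332aa4d5964117b57b, 0x6a8bde749001918ed9474210b6fbe6e5129674210b6fbe6a512742c534a6ebf6e5b3905eab1b051cc645a0490744cbc956d110dade6b137e9e180bb76d94420e985f449a883b6545440df91e0,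
  ub 1 0x26e897303971⟩

/-- a table on a segment -/
noncomputable def dI2280_N_19 : Dyn := ⟨11842, 1315, 0xbe7d94a1382656094b041824b5ec3d9a976b4e41824b5ec3d9a976b4e6184ddfc61490876be617a24a17d819bb27b869e6e4d6bb15ac05a11ac3e653dbd96b6e50c06268dcd1e0328b74d1b00ba6538319daeb24382, 0x932049c0bb277e3c7f06cdf963f40d8814380e6cdf963f40d8814380e6cce86394ad8856381c61f8d077a048c848bbe8cd4da7da9f81a533c666474f9aa9d46b1d3020ec5995853cfc237990e254d749d9515143032,
  ub 1 0x28949d503365⟩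

theorem segN_19 : (okJ gN_19 jP60 dP60_N_19 && okJ gN_19 jI60 dI60_N_19 && okJ gN_19 jI120 dI120_N_19 && okJ gN_19 jI840 dI840_N_19 && okJ gN_19 jI1320 dI1320_N_19 && okJ gN_19 jI1560 dI1560_N_19 && okJ gN_19 jI2040 dI2040_N_19 && okJ gN_19 jI2280 dI2280_N_19) = true := by
  decide +kernel

/-- a segment -/
def gN_23 : Seg := ⟨899924, 100076, 23, lp, lm⟩

/-- a table on a segment -/
noncomputable def dP60_N_23 : Dyn := ⟨450000, 50000, 0x25e26, 0x25cbf,
  ub 1 0x19c073f4240⟩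

/-- a table on a segment -/
noncomputable def dI60_N_23 : Dyn := ⟨450000, 50000, 0x1a8e6, 0x25772,
  ub 1 0x2580947a120⟩

/-- a table on a segment -/
noncomputable def dI120_N_23 : Dyn := ⟨225000, 25000, 0xd220ac0b8, 0x966e64852,
  ub 1 0x4f81473d090⟩

/-- a table on a segment -/
noncomputable def dI840_N_23 : Dyn := ⟨32142, 3572, 0x345c9aa4aa16154aa161542b10354c19c85688d60b7c5043126f959820ec5b3, 0x88478a767983576798354279e35547c9bd769c6b87e09bb06458f0006cd634,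
  ub 1 0x14044e908b82⟩

/-- a table on a segment -/
noncomputable def dI1320_N_23 : Dyn := ⟨20454, 2273, 0xd9b502d12a1244abd26d4e244abc26d4e047abd66d4e690d240796e6cf38d64b0e2946b9b6e84788c1ed306928c298a22e5, 0x90f039946e56d0f866390aec2f862390a6d0788e61ef79501570f421d9c8105869292281a310ddc5c38f3c2f79533935382,
  ub 1 0x1e2c78b058c7⟩

/-- a table on a segment -/
noncomputable def dI1560_N_23 : Dyn := ⟨17307, 1923, 0x883ff397410c9774008689ef26774008e89ef266740097c9eea434724a409c168ba07894e0490f253d836f5f1ca190c32ef52303fb198947c0a60, 0x6d38d214d94a7924729eb06b4892472beb06b48ba0709e900b42004c2973d6ecb9646b349dda04532228fa0cb863215c9dad54ec482cc2b40282a,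
  ub 1 0x1fec7ce04b1e⟩

/-- a table on a segment -/
noncomputable def dI2040_N_23 : Dyn := ⟨13235, 1470, 0x29784c9c7309a412ad487b2638c765bad5d487b2631c72dbad574c7cad3d4761dadf800d9a64e83687ab3c543f241a57f9eb4af5a5c259dc5f42306c935306d1a69a22929993fe42932c59afe, 0x1198a6de6438fd08eec6758219b4702b71ec7758219b4702b70f8a21aa55f77142317c1f580f23686080ddcd134e2d639d40736d1df46ce61265817c4cae0b4bd1b7824b8d8cba8e0c12ca2e9,
  ub 1 0x283ca2503971⟩

/-- a table on a segment -/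
noncomputable def dI2280_N_23 : Dyn := ⟨11842, 1315, 0x157fa2e8cd2cc1d72ccea005d0732d13e28933aa025d0732d13e28933c2107d0431d036289536c04f3a7bb9087f69539b5ad6e9acb9173e0aa2b5d01aa5d81a1461f5421003abbad9e6382b72f79ad8b18c51cdebf1, 0xe14381077e781d3abc21e3c7ee88185e2c503d1e3c7ee88185e2c503d567e5ec987acf7cd82c18610a0a3580a980875ce35a6e89080a8e539c8d31c62ae1a49b95a9beb63872d2774f0512c03c745e2ea86c69010af,
  ub 1 0x2cf4af303365⟩

theorem segN_23 : (okJ gN_23 jP60 dP60_N_23 && okJ gN_23 jI60 dI60_N_23 && okJ gN_23 jI120 dI120_N_23 && okJ gN_23 jI840 dI840_N_23 && okJ gN_23 jI1320 dI1320_N_23 && okJ gN_23 jI1560 dI1560_N_23 && okJ gN_23 jI2040 dI2040_N_23 && okJ gN_23 jI2280 dI2280_N_23) = true := by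
  decide +kernel

/-- a segment -/
def gN_29 : Seg := ⟨899924, 100076, 29, lp, lm⟩

/-- a table on a segment -/
noncomputable def dP60_N_29 : Dyn := ⟨450000, 50000, 0x1a6f3, 0x30146,
  ub 1 0x1cc07df4240⟩

/-- a table on a segment -/
noncomputable def dI60_N_29 : Dyn := ⟨450000, 50000, 0x1a6c8, 0x3041b,
  ub 1 0x2980a97a120⟩

/-- a table on a segment -/
noncomputable def dI120_N_29 : Dyn := ⟨225000, 25000, 0x1efcaaed0, 0x7888d8adc,
  ub 1 0x4e01393d090⟩

/-- a table on a segment -/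
noncomputable def dI840_N_29 : Dyn := ⟨32142, 3572, 0x415aba1ae85056aa850544fd8966a683953c653b7564092c585c59f62505084, 0x24052f7cbda900cbda9100a9a924c75fae023d28c38a0b1b22c95841630e0d2,
  ub 1 0x152c5ab08b82⟩

/-- a table on a segment -/
noncomputable def dI1320_N_29 : Dyn := ⟨20454, 2273, 0xa2d87258fa155268d8701e55268d8501e55c6cd8711b60a209873161732c61d12b4584c38699735d025d1f04a27670c7d3e, 0x352acfd140ec2d4300ebb1c2d4300ebb5c22cb618f3126d6681b39c80789188093648808506af709e208092154ce7a9398a,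
  ub 1 0x1c2478c058c7⟩

/-- a table on a segment -/
noncomputable def dI1560_N_29 : Dyn := ⟨17307, 1923, 0x6f4115e12ad2c80be6a1ad50d380be2a1ad50d389f37a90150f2cead63fbcc41f8b9a6048e7194cc3c3cf97f04f8fbf79728791a0d263028fc097, 0x2f3a24daf492dc0c55b210b4d2c0c55b210b4d2404557290b0d482771cb0d31dfc2a44d3890192c69b693ba0452ecfb665b2111cc97e14d0d254b,
  ub 1 0x1f447ea04b1e⟩

/-- a table on a segment -/
noncomputable def dI2040_N_29 : Dyn := ⟨13235, 1470, 0x98b13f650dd8f8a31674ac098f226075c6674ac09cf226075c66f09c118c264e55c63742118412ba021e2ea709b956926ae107cc99e334fa26bfe10e8fa6f883708509e38fb2739d1f46d1c17, 0x86883c1cf37614ea77973c3e10c88eb1507973c3e10c88eb1507bc3d171068ce395065a1c80d1dd86b3869a32eb1dc8aaab8734719a501541c16350a479fd1cb0287eb851229d37506065f2d7,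
  ub 1 0x26489a803971⟩

/-- a table on a segment -/
noncomputable def dI2280_N_29 : Dyn := ⟨11842, 1315, 0xee35bbcaf45b1910ea211c244340ba4c6ef11d11c244340ba4c6ef51d018205641f84c74931da1934b064b3c907608936f5ae6a35a6d5c0989f9e7f2fcf587930f51d92f764b41fbe4b7eda817e466fcf06f99de82b, 0xe0916ae41d314e05f0e1f66951ae2ce91fa0b11f66951ae2ce91fa0b19326151ae2cd929a73bf9c277e2467ad8cf4a571c1fc82a338897d3a7ccf5c592b12e95e389b75730a1a0fba00e890c0b461b9a02f0927b432,
  ub 1 0x287ca6f03365⟩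

theorem segN_29 : (okJ gN_29 jP60 dP60_N_29 && okJ gN_29 jI60 dI60_N_29 && okJ gN_29 jI120 dI120_N_29 && okJ gN_29 jI840 dI840_N_29 && okJ gN_29 jI1320 dI1320_N_29 && okJ gN_29 jI1560 dI1560_N_29 && okJ gN_29 jI2040 dI2040_N_29 && okJ gN_29 jI2280 dI2280_N_29) = true := by
  decide +kernel

end Cfsg.Agent.Depth.P.T
end

-- part: Depth/P/T/Main
section
/-!
# Depth (S5768): the tables (helper45; generated by `notes/Depth/P45_emit3.py.txt`)
-/

set_option autoImplicit false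
set_option maxRecDepth 100000
set_option Elab.async false

namespace Cfsg.Agent.Depth.P.T

theorem and8 {a b c d e f g h : Bool} (x : (a && b && c && d && e && f && g && h) = true) :
    a = true ∧ b = true ∧ c = true ∧ d = true ∧ e = true ∧ f = true ∧ g = true ∧ h = true := by
  simp only [Bool.and_eq_true] at x
  obtain ⟨⟨⟨⟨⟨⟨⟨x1, x2⟩, x3⟩, x4⟩, x5⟩, x6⟩, x7⟩, x8⟩ := x
  exact ⟨x1, x2, x3, x4, x5, x6, x7, x8⟩

/-- the segments of a table in a class -/
noncomputable def cP60_1 : List (Seg × Dyn) :=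
  [(gH_1, dP60_H_1), (gI_1, dP60_I_1), (gJ_1, dP60_J_1), (gK_1, dP60_K_1), (gL_1, dP60_L_1), (gM_1, dP60_M_1), (gN_1, dP60_N_1)]

theorem aP60_1 : AllOk jP60 lp lm cP60_1 :=
  ⟨(and8 segH_1).1, rfl, rfl, (and8 segI_1).1, rfl, rfl, (and8 segJ_1).1, rfl, rfl, (and8 segK_1).1, rfl, rfl, (and8 segL_1).1, rfl, rfl, (and8 segM_1).1, rfl, rfl, (and8 segN_1).1, rfl, rfl, trivial⟩

/-- the segments of a table in a class -/
noncomputable def cP60_7 : List (Seg × Dyn) :=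
  [(gH_7, dP60_H_7), (gI_7, dP60_I_7), (gJ_7, dP60_J_7), (gK_7, dP60_K_7), (gL_7, dP60_L_7), (gM_7, dP60_M_7), (gN_7, dP60_N_7)]

theorem aP60_7 : AllOk jP60 lp lm cP60_7 :=
  ⟨(and8 segH_7).1, rfl, rfl, (and8 segI_7).1, rfl, rfl, (and8 segJ_7).1, rfl, rfl, (and8 segK_7).1, rfl, rfl, (and8 segL_7).1, rfl, rfl, (and8 segM_7).1, rfl, rfl, (and8 segN_7).1, rfl, rfl, trivial⟩

/-- the segments of a table in a class -/
noncomputable def cP60_11 : List (Seg × Dyn) :=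
  [(gH_11, dP60_H_11), (gI_11, dP60_I_11), (gJ_11, dP60_J_11), (gK_11, dP60_K_11), (gL_11, dP60_L_11), (gM_11, dP60_M_11), (gN_11, dP60_N_11)]

theorem aP60_11 : AllOk jP60 lp lm cP60_11 :=
  ⟨(and8 segH_11).1, rfl, rfl, (and8 segI_11).1, rfl, rfl, (and8 segJ_11).1, rfl, rfl, (and8 segK_11).1, rfl, rfl, (and8 segL_11).1, rfl, rfl, (and8 segM_11).1, rfl, rfl, (and8 segN_11).1, rfl, rfl, trivial⟩

/-- the segments of a table in a class -/
noncomputable def cP60_13 : List (Seg × Dyn) :=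
  [(gH_13, dP60_H_13), (gI_13, dP60_I_13), (gJ_13, dP60_J_13), (gK_13, dP60_K_13), (gL_13, dP60_L_13), (gM_13, dP60_M_13), (gN_13, dP60_N_13)]

theorem aP60_13 : AllOk jP60 lp lm cP60_13 :=
  ⟨(and8 segH_13).1, rfl, rfl, (and8 segI_13).1, rfl, rfl, (and8 segJ_13).1, rfl, rfl, (and8 segK_13).1, rfl, rfl, (and8 segL_13).1, rfl, rfl, (and8 segM_13).1, rfl, rfl, (and8 segN_13).1, rfl, rfl, trivial⟩

/-- the segments of a table in a class -/
noncomputable def cP60_17 : List (Seg × Dyn) :=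
  [(gH_17, dP60_H_17), (gI_17, dP60_I_17), (gJ_17, dP60_J_17), (gK_17, dP60_K_17), (gL_17, dP60_L_17), (gM_17, dP60_M_17), (gN_17, dP60_N_17)]

theorem aP60_17 : AllOk jP60 lp lm cP60_17 :=
  ⟨(and8 segH_17).1, rfl, rfl, (and8 segI_17).1, rfl, rfl, (and8 segJ_17).1, rfl, rfl, (and8 segK_17).1, rfl, rfl, (and8 segL_17).1, rfl, rfl, (and8 segM_17).1, rfl, rfl, (and8 segN_17).1, rfl, rfl, trivial⟩

/-- the segments of a table in a class -/
noncomputable def cP60_19 : List (Seg × Dyn) :=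
  [(gH_19, dP60_H_19), (gI_19, dP60_I_19), (gJ_19, dP60_J_19), (gK_19, dP60_K_19), (gL_19, dP60_L_19), (gM_19, dP60_M_19), (gN_19, dP60_N_19)]

theorem aP60_19 : AllOk jP60 lp lm cP60_19 :=
  ⟨(and8 segH_19).1, rfl, rfl, (and8 segI_19).1, rfl, rfl, (and8 segJ_19).1, rfl, rfl, (and8 segK_19).1, rfl, rfl, (and8 segL_19).1, rfl, rfl, (and8 segM_19).1, rfl, rfl, (and8 segN_19).1, rfl, rfl, trivial⟩

/-- the segments of a table in a class -/
noncomputable def cP60_23 : List (Seg × Dyn) :=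
  [(gH_23, dP60_H_23), (gI_23, dP60_I_23), (gJ_23, dP60_J_23), (gK_23, dP60_K_23), (gL_23, dP60_L_23), (gM_23, dP60_M_23), (gN_23, dP60_N_23)]

theorem aP60_23 : AllOk jP60 lp lm cP60_23 :=
  ⟨(and8 segH_23).1, rfl, rfl, (and8 segI_23).1, rfl, rfl, (and8 segJ_23).1, rfl, rfl, (and8 segK_23).1, rfl, rfl, (and8 segL_23).1, rfl, rfl, (and8 segM_23).1, rfl, rfl, (and8 segN_23).1, rfl, rfl, trivial⟩

/-- the segments of a table in a class -/
noncomputable def cP60_29 : List (Seg × Dyn) :=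
  [(gH_29, dP60_H_29), (gI_29, dP60_I_29), (gJ_29, dP60_J_29), (gK_29, dP60_K_29), (gL_29, dP60_L_29), (gM_29, dP60_M_29), (gN_29, dP60_N_29)]

theorem aP60_29 : AllOk jP60 lp lm cP60_29 :=
  ⟨(and8 segH_29).1, rfl, rfl, (and8 segI_29).1, rfl, rfl, (and8 segJ_29).1, rfl, rfl, (and8 segK_29).1, rfl, rfl, (and8 segL_29).1, rfl, rfl, (and8 segM_29).1, rfl, rfl, (and8 segN_29).1, rfl, rfl, trivial⟩

private noncomputable def _root_.Cfsg.Agent.LsF.f87bf0c_12 : {f // @Cfsg.Agent.Depth.P.T.lastR = f} := ⟨_, by first | (delta Cfsg.Agent.Depth.P.T.lastR List.brecOn List.brecOn.go Cfsg.Agent.Depth.P.T.lastR._f; (try delta Cfsg.Agent.Depth.P.T.TabL.match_1); (try delta List.casesOn); first | dsimp -zeta only | exact rfl) | exact rfl⟩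
private noncomputable def _root_.Cfsg.Agent.LsF.f87bf0c_13 : {f // @Cfsg.Agent.Depth.P.T.lnk = f} := ⟨_, by first | (delta Cfsg.Agent.Depth.P.T.lnk List.brecOn List.brecOn.go Cfsg.Agent.Depth.P.T.lnk._f; rewrite [Cfsg.Agent.LsF.f87bf0c_12.2, Cfsg.Agent.LsF.nadd_pat, Cfsg.Agent.LsF.nmul_pat, Cfsg.Agent.LsF.ndiv_pat, Cfsg.Agent.LsF.and_eq]; (try delta Cfsg.Agent.Depth.P.T.lnk.match_1); (try delta List.casesOn); first | dsimp -zeta only | exact rfl) | exact rfl⟩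
private noncomputable def _root_.Cfsg.Agent.LsF.f87bf0c_14 : {f // @Cfsg.Agent.Depth.P.T.leB = f} := ⟨_, by first | (delta Cfsg.Agent.Depth.P.T.leB List.brecOn List.brecOn.go Cfsg.Agent.Depth.P.T.leB._f; rewrite [Cfsg.Agent.LsF.and_eq]; (try delta Cfsg.Agent.Depth.P.T.leB.match_1); (try delta Cfsg.Agent.Depth.P.T.leB._sparseCasesOn_1); (try delta Cfsg.Agent.Depth.P.T.leB._sparseCasesOn_2); (try delta List.casesOn); first | dsimp -zeta only | exact rfl) | exact rfl⟩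
private noncomputable def _root_.Cfsg.Agent.LsF.f87bf0c_15 : {f // @Cfsg.Agent.Depth.P.T.flat = f} := ⟨_, by first | (delta Cfsg.Agent.Depth.P.T.flat List.brecOn List.brecOn.go Cfsg.Agent.Depth.P.T.flat._f; rewrite [Cfsg.Agent.LsF.lappend_pat]; (try delta Cfsg.Agent.Depth.P.T.AllOk.match_1); (try delta List.casesOn); first | dsimp -zeta only | exact rfl) | exact rfl⟩
private noncomputable def _root_.Cfsg.Agent.LsF.f87bf0c_16 : {f // @Cfsg.Agent.Depth.P.T.subB = f} := ⟨_, by first | (delta Cfsg.Agent.Depth.P.T.subB List.brecOn List.brecOn.go Cfsg.Agent.Depth.P.T.subB._f; rewrite [Cfsg.Agent.LsF.nsub_pat]; (try delta Cfsg.Agent.Depth.P.T.subB.match_1); (try delta Cfsg.Agent.Depth.P.T.leB._sparseCasesOn_2); first | dsimp -zeta only | exact rfl) | exact rfl⟩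
private noncomputable def _root_.Cfsg.Agent.LsF.f87bf0c_17 : {f // @Cfsg.Agent.Depth.P.T.okM = f} := ⟨_, by first | (delta Cfsg.Agent.Depth.P.T.okM List.brecOn List.brecOn.go Cfsg.Agent.Depth.P.T.okM._f; rewrite [Cfsg.Agent.LsF.f87bf0c_13.2, Cfsg.Agent.LsF.f87bf0c_14.2, Cfsg.Agent.LsF.f87bf0c_15.2, Cfsg.Agent.LsF.f87bf0c_16.2, Cfsg.Agent.LsF.and_eq]; (try delta Cfsg.Agent.Depth.P.T.okM.match_1); (try delta List.casesOn); first | dsimp -zeta only | exact rfl) | exact rfl⟩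
theorem tabP60 : Tab 1 60 23000 Ap60 Am60 0 bP60 :=
  tab_of (J := jP60) trm60 0x30000 (by decide +kernel)
    [(1, cP60_1), (7, cP60_7), (11, cP60_11), (13, cP60_13), (17, cP60_17), (19, cP60_19), (23, cP60_23), (29, cP60_29)]
    rfl bP60 ⟨aP60_1, aP60_7, aP60_11, aP60_13, aP60_17, aP60_19, aP60_23, aP60_29, trivial⟩
    (by ((try (rewrite [Cfsg.Agent.LsF.f87bf0c_17.2])); decide +kernel))

/-- the segments of a table in a class -/
noncomputable def cI60_1 : List (Seg × Dyn) :=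
  [(gH_1, dI60_H_1), (gI_1, dI60_I_1), (gJ_1, dI60_J_1), (gK_1, dI60_K_1), (gL_1, dI60_L_1), (gM_1, dI60_M_1), (gN_1, dI60_N_1)]

theorem aI60_1 : AllOk jI60 lp lm cI60_1 :=
  ⟨(and8 segH_1).2.1, rfl, rfl, (and8 segI_1).2.1, rfl, rfl, (and8 segJ_1).2.1, rfl, rfl, (and8 segK_1).2.1, rfl, rfl, (and8 segL_1).2.1, rfl, rfl, (and8 segM_1).2.1, rfl, rfl, (and8 segN_1).2.1, rfl, rfl, trivial⟩

/-- the segments of a table in a class -/
noncomputable def cI60_7 : List (Seg × Dyn) :=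
  [(gH_7, dI60_H_7), (gI_7, dI60_I_7), (gJ_7, dI60_J_7), (gK_7, dI60_K_7), (gL_7, dI60_L_7), (gM_7, dI60_M_7), (gN_7, dI60_N_7)]

theorem aI60_7 : AllOk jI60 lp lm cI60_7 :=
  ⟨(and8 segH_7).2.1, rfl, rfl, (and8 segI_7).2.1, rfl, rfl, (and8 segJ_7).2.1, rfl, rfl, (and8 segK_7).2.1, rfl, rfl, (and8 segL_7).2.1, rfl, rfl, (and8 segM_7).2.1, rfl, rfl, (and8 segN_7).2.1, rfl, rfl, trivial⟩

/-- the segments of a table in a class -/
noncomputable def cI60_11 : List (Seg × Dyn) :=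
  [(gH_11, dI60_H_11), (gI_11, dI60_I_11), (gJ_11, dI60_J_11), (gK_11, dI60_K_11), (gL_11, dI60_L_11), (gM_11, dI60_M_11), (gN_11, dI60_N_11)]

theorem aI60_11 : AllOk jI60 lp lm cI60_11 :=
  ⟨(and8 segH_11).2.1, rfl, rfl, (and8 segI_11).2.1, rfl, rfl, (and8 segJ_11).2.1, rfl, rfl, (and8 segK_11).2.1, rfl, rfl, (and8 segL_11).2.1, rfl, rfl, (and8 segM_11).2.1, rfl, rfl, (and8 segN_11).2.1, rfl, rfl, trivial⟩

/-- the segments of a table in a class -/
noncomputable def cI60_13 : List (Seg × Dyn) :=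
  [(gH_13, dI60_H_13), (gI_13, dI60_I_13), (gJ_13, dI60_J_13), (gK_13, dI60_K_13), (gL_13, dI60_L_13), (gM_13, dI60_M_13), (gN_13, dI60_N_13)]

theorem aI60_13 : AllOk jI60 lp lm cI60_13 :=
  ⟨(and8 segH_13).2.1, rfl, rfl, (and8 segI_13).2.1, rfl, rfl, (and8 segJ_13).2.1, rfl, rfl, (and8 segK_13).2.1, rfl, rfl, (and8 segL_13).2.1, rfl, rfl, (and8 segM_13).2.1, rfl, rfl, (and8 segN_13).2.1, rfl, rfl, trivial⟩

/-- the segments of a table in a class -/
noncomputable def cI60_17 : List (Seg × Dyn) :=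
  [(gH_17, dI60_H_17), (gI_17, dI60_I_17), (gJ_17, dI60_J_17), (gK_17, dI60_K_17), (gL_17, dI60_L_17), (gM_17, dI60_M_17), (gN_17, dI60_N_17)]

theorem aI60_17 : AllOk jI60 lp lm cI60_17 :=
  ⟨(and8 segH_17).2.1, rfl, rfl, (and8 segI_17).2.1, rfl, rfl, (and8 segJ_17).2.1, rfl, rfl, (and8 segK_17).2.1, rfl, rfl, (and8 segL_17).2.1, rfl, rfl, (and8 segM_17).2.1, rfl, rfl, (and8 segN_17).2.1, rfl, rfl, trivial⟩

/-- the segments of a table in a class -/
noncomputable def cI60_19 : List (Seg × Dyn) :=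
  [(gH_19, dI60_H_19), (gI_19, dI60_I_19), (gJ_19, dI60_J_19), (gK_19, dI60_K_19), (gL_19, dI60_L_19), (gM_19, dI60_M_19), (gN_19, dI60_N_19)]

theorem aI60_19 : AllOk jI60 lp lm cI60_19 :=
  ⟨(and8 segH_19).2.1, rfl, rfl, (and8 segI_19).2.1, rfl, rfl, (and8 segJ_19).2.1, rfl, rfl, (and8 segK_19).2.1, rfl, rfl, (and8 segL_19).2.1, rfl, rfl, (and8 segM_19).2.1, rfl, rfl, (and8 segN_19).2.1, rfl, rfl, trivial⟩

/-- the segments of a table in a class -/
noncomputable def cI60_23 : List (Seg × Dyn) :=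
  [(gH_23, dI60_H_23), (gI_23, dI60_I_23), (gJ_23, dI60_J_23), (gK_23, dI60_K_23), (gL_23, dI60_L_23), (gM_23, dI60_M_23), (gN_23, dI60_N_23)]

theorem aI60_23 : AllOk jI60 lp lm cI60_23 :=
  ⟨(and8 segH_23).2.1, rfl, rfl, (and8 segI_23).2.1, rfl, rfl, (and8 segJ_23).2.1, rfl, rfl, (and8 segK_23).2.1, rfl, rfl, (and8 segL_23).2.1, rfl, rfl, (and8 segM_23).2.1, rfl, rfl, (and8 segN_23).2.1, rfl, rfl, trivial⟩

/-- the segments of a table in a class -/
noncomputable def cI60_29 : List (Seg × Dyn) :=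
  [(gH_29, dI60_H_29), (gI_29, dI60_I_29), (gJ_29, dI60_J_29), (gK_29, dI60_K_29), (gL_29, dI60_L_29), (gM_29, dI60_M_29), (gN_29, dI60_N_29)]

theorem aI60_29 : AllOk jI60 lp lm cI60_29 :=
  ⟨(and8 segH_29).2.1, rfl, rfl, (and8 segI_29).2.1, rfl, rfl, (and8 segJ_29).2.1, rfl, rfl, (and8 segK_29).2.1, rfl, rfl, (and8 segL_29).2.1, rfl, rfl, (and8 segM_29).2.1, rfl, rfl, (and8 segN_29).2.1, rfl, rfl, trivial⟩

theorem tabI60 : Tab 2 60 23000 Ap60 Am60 0 bI60 :=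
  tab_of (J := jI60) trm60 0x30000 (by decide +kernel)
    [(1, cI60_1), (7, cI60_7), (11, cI60_11), (13, cI60_13), (17, cI60_17), (19, cI60_19), (23, cI60_23), (29, cI60_29)]
    rfl bI60 ⟨aI60_1, aI60_7, aI60_11, aI60_13, aI60_17, aI60_19, aI60_23, aI60_29, trivial⟩
    (by ((try (rewrite [Cfsg.Agent.LsF.f87bf0c_17.2])); decide +kernel))

/-- the segments of a table in a class -/
noncomputable def cI120_1 : List (Seg × Dyn) :=
  [(gH_1, dI120_H_1), (gI_1, dI120_I_1), (gJ_1, dI120_J_1), (gK_1, dI120_K_1), (gL_1, dI120_L_1), (gM_1, dI120_M_1), (gN_1, dI120_N_1)]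

theorem aI120_1 : AllOk jI120 lp lm cI120_1 :=
  ⟨(and8 segH_1).2.2.1, rfl, rfl, (and8 segI_1).2.2.1, rfl, rfl, (and8 segJ_1).2.2.1, rfl, rfl, (and8 segK_1).2.2.1, rfl, rfl, (and8 segL_1).2.2.1, rfl, rfl, (and8 segM_1).2.2.1, rfl, rfl, (and8 segN_1).2.2.1, rfl, rfl, trivial⟩

/-- the segments of a table in a class -/
noncomputable def cI120_7 : List (Seg × Dyn) :=
  [(gH_7, dI120_H_7), (gI_7, dI120_I_7), (gJ_7, dI120_J_7), (gK_7, dI120_K_7), (gL_7, dI120_L_7), (gM_7, dI120_M_7), (gN_7, dI120_N_7)]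

theorem aI120_7 : AllOk jI120 lp lm cI120_7 :=
  ⟨(and8 segH_7).2.2.1, rfl, rfl, (and8 segI_7).2.2.1, rfl, rfl, (and8 segJ_7).2.2.1, rfl, rfl, (and8 segK_7).2.2.1, rfl, rfl, (and8 segL_7).2.2.1, rfl, rfl, (and8 segM_7).2.2.1, rfl, rfl, (and8 segN_7).2.2.1, rfl, rfl, trivial⟩

/-- the segments of a table in a class -/
noncomputable def cI120_11 : List (Seg × Dyn) :=
  [(gH_11, dI120_H_11), (gI_11, dI120_I_11), (gJ_11, dI120_J_11), (gK_11, dI120_K_11), (gL_11, dI120_L_11), (gM_11, dI120_M_11), (gN_11, dI120_N_11)]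

theorem aI120_11 : AllOk jI120 lp lm cI120_11 :=
  ⟨(and8 segH_11).2.2.1, rfl, rfl, (and8 segI_11).2.2.1, rfl, rfl, (and8 segJ_11).2.2.1, rfl, rfl, (and8 segK_11).2.2.1, rfl, rfl, (and8 segL_11).2.2.1, rfl, rfl, (and8 segM_11).2.2.1, rfl, rfl, (and8 segN_11).2.2.1, rfl, rfl, trivial⟩

/-- the segments of a table in a class -/
noncomputable def cI120_13 : List (Seg × Dyn) :=
  [(gH_13, dI120_H_13), (gI_13, dI120_I_13), (gJ_13, dI120_J_13), (gK_13, dI120_K_13), (gL_13, dI120_L_13), (gM_13, dI120_M_13), (gN_13, dI120_N_13)]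

theorem aI120_13 : AllOk jI120 lp lm cI120_13 :=
  ⟨(and8 segH_13).2.2.1, rfl, rfl, (and8 segI_13).2.2.1, rfl, rfl, (and8 segJ_13).2.2.1, rfl, rfl, (and8 segK_13).2.2.1, rfl, rfl, (and8 segL_13).2.2.1, rfl, rfl, (and8 segM_13).2.2.1, rfl, rfl, (and8 segN_13).2.2.1, rfl, rfl, trivial⟩

/-- the segments of a table in a class -/
noncomputable def cI120_17 : List (Seg × Dyn) :=
  [(gH_17, dI120_H_17), (gI_17, dI120_I_17), (gJ_17, dI120_J_17), (gK_17, dI120_K_17), (gL_17, dI120_L_17), (gM_17, dI120_M_17), (gN_17, dI120_N_17)]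

theorem aI120_17 : AllOk jI120 lp lm cI120_17 :=
  ⟨(and8 segH_17).2.2.1, rfl, rfl, (and8 segI_17).2.2.1, rfl, rfl, (and8 segJ_17).2.2.1, rfl, rfl, (and8 segK_17).2.2.1, rfl, rfl, (and8 segL_17).2.2.1, rfl, rfl, (and8 segM_17).2.2.1, rfl, rfl, (and8 segN_17).2.2.1, rfl, rfl, trivial⟩

/-- the segments of a table in a class -/
noncomputable def cI120_19 : List (Seg × Dyn) :=
  [(gH_19, dI120_H_19), (gI_19, dI120_I_19), (gJ_19, dI120_J_19), (gK_19, dI120_K_19), (gL_19, dI120_L_19), (gM_19, dI120_M_19), (gN_19, dI120_N_19)]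

theorem aI120_19 : AllOk jI120 lp lm cI120_19 :=
  ⟨(and8 segH_19).2.2.1, rfl, rfl, (and8 segI_19).2.2.1, rfl, rfl, (and8 segJ_19).2.2.1, rfl, rfl, (and8 segK_19).2.2.1, rfl, rfl, (and8 segL_19).2.2.1, rfl, rfl, (and8 segM_19).2.2.1, rfl, rfl, (and8 segN_19).2.2.1, rfl, rfl, trivial⟩

/-- the segments of a table in a class -/
noncomputable def cI120_23 : List (Seg × Dyn) :=
  [(gH_23, dI120_H_23), (gI_23, dI120_I_23), (gJ_23, dI120_J_23), (gK_23, dI120_K_23), (gL_23, dI120_L_23), (gM_23, dI120_M_23), (gN_23, dI120_N_23)]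

theorem aI120_23 : AllOk jI120 lp lm cI120_23 :=
  ⟨(and8 segH_23).2.2.1, rfl, rfl, (and8 segI_23).2.2.1, rfl, rfl, (and8 segJ_23).2.2.1, rfl, rfl, (and8 segK_23).2.2.1, rfl, rfl, (and8 segL_23).2.2.1, rfl, rfl, (and8 segM_23).2.2.1, rfl, rfl, (and8 segN_23).2.2.1, rfl, rfl, trivial⟩

/-- the segments of a table in a class -/
noncomputable def cI120_29 : List (Seg × Dyn) :=
  [(gH_29, dI120_H_29), (gI_29, dI120_I_29), (gJ_29, dI120_J_29), (gK_29, dI120_K_29), (gL_29, dI120_L_29), (gM_29, dI120_M_29), (gN_29, dI120_N_29)]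

theorem aI120_29 : AllOk jI120 lp lm cI120_29 :=
  ⟨(and8 segH_29).2.2.1, rfl, rfl, (and8 segI_29).2.2.1, rfl, rfl, (and8 segJ_29).2.2.1, rfl, rfl, (and8 segK_29).2.2.1, rfl, rfl, (and8 segL_29).2.2.1, rfl, rfl, (and8 segM_29).2.2.1, rfl, rfl, (and8 segN_29).2.2.1, rfl, rfl, trivial⟩

theorem tabI120 : Tab 2 120 23000 Ap60 Am60 0 bI120 :=
  tab_of (J := jI120) trm120 0xf00000000 (by decide +kernel)
    [(1, cI120_1), (7, cI120_7), (11, cI120_11), (13, cI120_13), (17, cI120_17), (19, cI120_19), (23, cI120_23), (29, cI120_29)]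
    rfl bI120 ⟨aI120_1, aI120_7, aI120_11, aI120_13, aI120_17, aI120_19, aI120_23, aI120_29, trivial⟩
    (by decide +kernel)

/-- the segments of a table in a class -/
noncomputable def cI840_1 : List (Seg × Dyn) :=
  [(gH_1, dI840_H_1), (gI_1, dI840_I_1), (gJ_1, dI840_J_1), (gK_1, dI840_K_1), (gL_1, dI840_L_1), (gM_1, dI840_M_1), (gN_1, dI840_N_1)]

theorem aI840_1 : AllOk jI840 lp lm cI840_1 :=
  ⟨(and8 segH_1).2.2.2.1, rfl, rfl, (and8 segI_1).2.2.2.1, rfl, rfl, (and8 segJ_1).2.2.2.1, rfl, rfl, (and8 segK_1).2.2.2.1, rfl, rfl, (and8 segL_1).2.2.2.1, rfl, rfl, (and8 segM_1).2.2.2.1, rfl, rfl, (and8 segN_1).2.2.2.1, rfl, rfl, trivial⟩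

/-- the segments of a table in a class -/
noncomputable def cI840_7 : List (Seg × Dyn) :=
  [(gH_7, dI840_H_7), (gI_7, dI840_I_7), (gJ_7, dI840_J_7), (gK_7, dI840_K_7), (gL_7, dI840_L_7), (gM_7, dI840_M_7), (gN_7, dI840_N_7)]

theorem aI840_7 : AllOk jI840 lp lm cI840_7 :=
  ⟨(and8 segH_7).2.2.2.1, rfl, rfl, (and8 segI_7).2.2.2.1, rfl, rfl, (and8 segJ_7).2.2.2.1, rfl, rfl, (and8 segK_7).2.2.2.1, rfl, rfl, (and8 segL_7).2.2.2.1, rfl, rfl, (and8 segM_7).2.2.2.1, rfl, rfl, (and8 segN_7).2.2.2.1, rfl, rfl, trivial⟩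

/-- the segments of a table in a class -/
noncomputable def cI840_11 : List (Seg × Dyn) :=
  [(gH_11, dI840_H_11), (gI_11, dI840_I_11), (gJ_11, dI840_J_11), (gK_11, dI840_K_11), (gL_11, dI840_L_11), (gM_11, dI840_M_11), (gN_11, dI840_N_11)]

theorem aI840_11 : AllOk jI840 lp lm cI840_11 :=
  ⟨(and8 segH_11).2.2.2.1, rfl, rfl, (and8 segI_11).2.2.2.1, rfl, rfl, (and8 segJ_11).2.2.2.1, rfl, rfl, (and8 segK_11).2.2.2.1, rfl, rfl, (and8 segL_11).2.2.2.1, rfl, rfl, (and8 segM_11).2.2.2.1, rfl, rfl, (and8 segN_11).2.2.2.1, rfl, rfl, trivial⟩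

/-- the segments of a table in a class -/
noncomputable def cI840_13 : List (Seg × Dyn) :=
  [(gH_13, dI840_H_13), (gI_13, dI840_I_13), (gJ_13, dI840_J_13), (gK_13, dI840_K_13), (gL_13, dI840_L_13), (gM_13, dI840_M_13), (gN_13, dI840_N_13)]

theorem aI840_13 : AllOk jI840 lp lm cI840_13 :=
  ⟨(and8 segH_13).2.2.2.1, rfl, rfl, (and8 segI_13).2.2.2.1, rfl, rfl, (and8 segJ_13).2.2.2.1, rfl, rfl, (and8 segK_13).2.2.2.1, rfl, rfl, (and8 segL_13).2.2.2.1, rfl, rfl, (and8 segM_13).2.2.2.1, rfl, rfl, (and8 segN_13).2.2.2.1, rfl, rfl, trivial⟩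

/-- the segments of a table in a class -/
noncomputable def cI840_17 : List (Seg × Dyn) :=
  [(gH_17, dI840_H_17), (gI_17, dI840_I_17), (gJ_17, dI840_J_17), (gK_17, dI840_K_17), (gL_17, dI840_L_17), (gM_17, dI840_M_17), (gN_17, dI840_N_17)]

theorem aI840_17 : AllOk jI840 lp lm cI840_17 :=
  ⟨(and8 segH_17).2.2.2.1, rfl, rfl, (and8 segI_17).2.2.2.1, rfl, rfl, (and8 segJ_17).2.2.2.1, rfl, rfl, (and8 segK_17).2.2.2.1, rfl, rfl, (and8 segL_17).2.2.2.1, rfl, rfl, (and8 segM_17).2.2.2.1, rfl, rfl, (and8 segN_17).2.2.2.1, rfl, rfl, trivial⟩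

/-- the segments of a table in a class -/
noncomputable def cI840_19 : List (Seg × Dyn) :=
  [(gH_19, dI840_H_19), (gI_19, dI840_I_19), (gJ_19, dI840_J_19), (gK_19, dI840_K_19), (gL_19, dI840_L_19), (gM_19, dI840_M_19), (gN_19, dI840_N_19)]

theorem aI840_19 : AllOk jI840 lp lm cI840_19 :=
  ⟨(and8 segH_19).2.2.2.1, rfl, rfl, (and8 segI_19).2.2.2.1, rfl, rfl, (and8 segJ_19).2.2.2.1, rfl, rfl, (and8 segK_19).2.2.2.1, rfl, rfl, (and8 segL_19).2.2.2.1, rfl, rfl, (and8 segM_19).2.2.2.1, rfl, rfl, (and8 segN_19).2.2.2.1, rfl, rfl, trivial⟩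

/-- the segments of a table in a class -/
noncomputable def cI840_23 : List (Seg × Dyn) :=
  [(gH_23, dI840_H_23), (gI_23, dI840_I_23), (gJ_23, dI840_J_23), (gK_23, dI840_K_23), (gL_23, dI840_L_23), (gM_23, dI840_M_23), (gN_23, dI840_N_23)]

theorem aI840_23 : AllOk jI840 lp lm cI840_23 :=
  ⟨(and8 segH_23).2.2.2.1, rfl, rfl, (and8 segI_23).2.2.2.1, rfl, rfl, (and8 segJ_23).2.2.2.1, rfl, rfl, (and8 segK_23).2.2.2.1, rfl, rfl, (and8 segL_23).2.2.2.1, rfl, rfl, (and8 segM_23).2.2.2.1, rfl, rfl, (and8 segN_23).2.2.2.1, rfl, rfl, trivial⟩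

/-- the segments of a table in a class -/
noncomputable def cI840_29 : List (Seg × Dyn) :=
  [(gH_29, dI840_H_29), (gI_29, dI840_I_29), (gJ_29, dI840_J_29), (gK_29, dI840_K_29), (gL_29, dI840_L_29), (gM_29, dI840_M_29), (gN_29, dI840_N_29)]

theorem aI840_29 : AllOk jI840 lp lm cI840_29 :=
  ⟨(and8 segH_29).2.2.2.1, rfl, rfl, (and8 segI_29).2.2.2.1, rfl, rfl, (and8 segJ_29).2.2.2.1, rfl, rfl, (and8 segK_29).2.2.2.1, rfl, rfl, (and8 segL_29).2.2.2.1, rfl, rfl, (and8 segM_29).2.2.2.1, rfl, rfl, (and8 segN_29).2.2.2.1, rfl, rfl, trivial⟩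

theorem tabI840 : Tab 2 840 34000 Ap840 Am840 0 bI840 :=
  tab_of (J := jI840) trm840 0xfffffff00000000000000000000000000000000000000000000000000000000 (by decide +kernel)
    [(1, cI840_1), (7, cI840_7), (11, cI840_11), (13, cI840_13), (17, cI840_17), (19, cI840_19), (23, cI840_23), (29, cI840_29)]
    rfl bI840 ⟨aI840_1, aI840_7, aI840_11, aI840_13, aI840_17, aI840_19, aI840_23, aI840_29, trivial⟩
    (by decide +kernel)

/-- the segments of a table in a class -/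
noncomputable def cI1320_1 : List (Seg × Dyn) :=
  [(gH_1, dI1320_H_1), (gI_1, dI1320_I_1), (gJ_1, dI1320_J_1), (gK_1, dI1320_K_1), (gL_1, dI1320_L_1), (gM_1, dI1320_M_1), (gN_1, dI1320_N_1)]

theorem aI1320_1 : AllOk jI1320 lp lm cI1320_1 :=
  ⟨(and8 segH_1).2.2.2.2.1, rfl, rfl, (and8 segI_1).2.2.2.2.1, rfl, rfl, (and8 segJ_1).2.2.2.2.1, rfl, rfl, (and8 segK_1).2.2.2.2.1, rfl, rfl, (and8 segL_1).2.2.2.2.1, rfl, rfl, (and8 segM_1).2.2.2.2.1, rfl, rfl, (and8 segN_1).2.2.2.2.1, rfl, rfl, trivial⟩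

/-- the segments of a table in a class -/
noncomputable def cI1320_7 : List (Seg × Dyn) :=
  [(gH_7, dI1320_H_7), (gI_7, dI1320_I_7), (gJ_7, dI1320_J_7), (gK_7, dI1320_K_7), (gL_7, dI1320_L_7), (gM_7, dI1320_M_7), (gN_7, dI1320_N_7)]

theorem aI1320_7 : AllOk jI1320 lp lm cI1320_7 :=
  ⟨(and8 segH_7).2.2.2.2.1, rfl, rfl, (and8 segI_7).2.2.2.2.1, rfl, rfl, (and8 segJ_7).2.2.2.2.1, rfl, rfl, (and8 segK_7).2.2.2.2.1, rfl, rfl, (and8 segL_7).2.2.2.2.1, rfl, rfl, (and8 segM_7).2.2.2.2.1, rfl, rfl, (and8 segN_7).2.2.2.2.1, rfl, rfl, trivial⟩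

/-- the segments of a table in a class -/
noncomputable def cI1320_11 : List (Seg × Dyn) :=
  [(gH_11, dI1320_H_11), (gI_11, dI1320_I_11), (gJ_11, dI1320_J_11), (gK_11, dI1320_K_11), (gL_11, dI1320_L_11), (gM_11, dI1320_M_11), (gN_11, dI1320_N_11)]

theorem aI1320_11 : AllOk jI1320 lp lm cI1320_11 :=
  ⟨(and8 segH_11).2.2.2.2.1, rfl, rfl, (and8 segI_11).2.2.2.2.1, rfl, rfl, (and8 segJ_11).2.2.2.2.1, rfl, rfl, (and8 segK_11).2.2.2.2.1, rfl, rfl, (and8 segL_11).2.2.2.2.1, rfl, rfl, (and8 segM_11).2.2.2.2.1, rfl, rfl, (and8 segN_11).2.2.2.2.1, rfl, rfl, trivial⟩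

/-- the segments of a table in a class -/
noncomputable def cI1320_13 : List (Seg × Dyn) :=
  [(gH_13, dI1320_H_13), (gI_13, dI1320_I_13), (gJ_13, dI1320_J_13), (gK_13, dI1320_K_13), (gL_13, dI1320_L_13), (gM_13, dI1320_M_13), (gN_13, dI1320_N_13)]

theorem aI1320_13 : AllOk jI1320 lp lm cI1320_13 :=
  ⟨(and8 segH_13).2.2.2.2.1, rfl, rfl, (and8 segI_13).2.2.2.2.1, rfl, rfl, (and8 segJ_13).2.2.2.2.1, rfl, rfl, (and8 segK_13).2.2.2.2.1, rfl, rfl, (and8 segL_13).2.2.2.2.1, rfl, rfl, (and8 segM_13).2.2.2.2.1, rfl, rfl, (and8 segN_13).2.2.2.2.1, rfl, rfl, trivial⟩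

/-- the segments of a table in a class -/
noncomputable def cI1320_17 : List (Seg × Dyn) :=
  [(gH_17, dI1320_H_17), (gI_17, dI1320_I_17), (gJ_17, dI1320_J_17), (gK_17, dI1320_K_17), (gL_17, dI1320_L_17), (gM_17, dI1320_M_17), (gN_17, dI1320_N_17)]

theorem aI1320_17 : AllOk jI1320 lp lm cI1320_17 :=
  ⟨(and8 segH_17).2.2.2.2.1, rfl, rfl, (and8 segI_17).2.2.2.2.1, rfl, rfl, (and8 segJ_17).2.2.2.2.1, rfl, rfl, (and8 segK_17).2.2.2.2.1, rfl, rfl, (and8 segL_17).2.2.2.2.1, rfl, rfl, (and8 segM_17).2.2.2.2.1, rfl, rfl, (and8 segN_17).2.2.2.2.1, rfl, rfl, trivial⟩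

/-- the segments of a table in a class -/
noncomputable def cI1320_19 : List (Seg × Dyn) :=
  [(gH_19, dI1320_H_19), (gI_19, dI1320_I_19), (gJ_19, dI1320_J_19), (gK_19, dI1320_K_19), (gL_19, dI1320_L_19), (gM_19, dI1320_M_19), (gN_19, dI1320_N_19)]

theorem aI1320_19 : AllOk jI1320 lp lm cI1320_19 :=
  ⟨(and8 segH_19).2.2.2.2.1, rfl, rfl, (and8 segI_19).2.2.2.2.1, rfl, rfl, (and8 segJ_19).2.2.2.2.1, rfl, rfl, (and8 segK_19).2.2.2.2.1, rfl, rfl, (and8 segL_19).2.2.2.2.1, rfl, rfl, (and8 segM_19).2.2.2.2.1, rfl, rfl, (and8 segN_19).2.2.2.2.1, rfl, rfl, trivial⟩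

/-- the segments of a table in a class -/
noncomputable def cI1320_23 : List (Seg × Dyn) :=
  [(gH_23, dI1320_H_23), (gI_23, dI1320_I_23), (gJ_23, dI1320_J_23), (gK_23, dI1320_K_23), (gL_23, dI1320_L_23), (gM_23, dI1320_M_23), (gN_23, dI1320_N_23)]

theorem aI1320_23 : AllOk jI1320 lp lm cI1320_23 :=
  ⟨(and8 segH_23).2.2.2.2.1, rfl, rfl, (and8 segI_23).2.2.2.2.1, rfl, rfl, (and8 segJ_23).2.2.2.2.1, rfl, rfl, (and8 segK_23).2.2.2.2.1, rfl, rfl, (and8 segL_23).2.2.2.2.1, rfl, rfl, (and8 segM_23).2.2.2.2.1, rfl, rfl, (and8 segN_23).2.2.2.2.1, rfl, rfl, trivial⟩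

/-- the segments of a table in a class -/
noncomputable def cI1320_29 : List (Seg × Dyn) :=
  [(gH_29, dI1320_H_29), (gI_29, dI1320_I_29), (gJ_29, dI1320_J_29), (gK_29, dI1320_K_29), (gL_29, dI1320_L_29), (gM_29, dI1320_M_29), (gN_29, dI1320_N_29)]

theorem aI1320_29 : AllOk jI1320 lp lm cI1320_29 :=
  ⟨(and8 segH_29).2.2.2.2.1, rfl, rfl, (and8 segI_29).2.2.2.2.1, rfl, rfl, (and8 segJ_29).2.2.2.2.1, rfl, rfl, (and8 segK_29).2.2.2.2.1, rfl, rfl, (and8 segL_29).2.2.2.2.1, rfl, rfl, (and8 segM_29).2.2.2.2.1, rfl, rfl, (and8 segN_29).2.2.2.2.1, rfl, rfl, trivial⟩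

theorem tabI1320 : Tab 2 1320 23000 Ap1320 Am1320 0 bI1320 :=
  tab_of (J := jI1320) trm1320 0xfffffffffff0000000000000000000000000000000000000000000000000000000000000000000000000000000000000000 (by decide +kernel)
    [(1, cI1320_1), (7, cI1320_7), (11, cI1320_11), (13, cI1320_13), (17, cI1320_17), (19, cI1320_19), (23, cI1320_23), (29, cI1320_29)]
    rfl bI1320 ⟨aI1320_1, aI1320_7, aI1320_11, aI1320_13, aI1320_17, aI1320_19, aI1320_23, aI1320_29, trivial⟩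
    (by decide +kernel)

/-- the segments of a table in a class -/
noncomputable def cI1560_1 : List (Seg × Dyn) :=
  [(gH_1, dI1560_H_1), (gI_1, dI1560_I_1), (gJ_1, dI1560_J_1), (gK_1, dI1560_K_1), (gL_1, dI1560_L_1), (gM_1, dI1560_M_1), (gN_1, dI1560_N_1)]

theorem aI1560_1 : AllOk jI1560 lp lm cI1560_1 :=
  ⟨(and8 segH_1).2.2.2.2.2.1, rfl, rfl, (and8 segI_1).2.2.2.2.2.1, rfl, rfl, (and8 segJ_1).2.2.2.2.2.1, rfl, rfl, (and8 segK_1).2.2.2.2.2.1, rfl, rfl, (and8 segL_1).2.2.2.2.2.1, rfl, rfl, (and8 segM_1).2.2.2.2.2.1, rfl, rfl, (and8 segN_1).2.2.2.2.2.1, rfl, rfl, trivial⟩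

/-- the segments of a table in a class -/
noncomputable def cI1560_7 : List (Seg × Dyn) :=
  [(gH_7, dI1560_H_7), (gI_7, dI1560_I_7), (gJ_7, dI1560_J_7), (gK_7, dI1560_K_7), (gL_7, dI1560_L_7), (gM_7, dI1560_M_7), (gN_7, dI1560_N_7)]

theorem aI1560_7 : AllOk jI1560 lp lm cI1560_7 :=
  ⟨(and8 segH_7).2.2.2.2.2.1, rfl, rfl, (and8 segI_7).2.2.2.2.2.1, rfl, rfl, (and8 segJ_7).2.2.2.2.2.1, rfl, rfl, (and8 segK_7).2.2.2.2.2.1, rfl, rfl, (and8 segL_7).2.2.2.2.2.1, rfl, rfl, (and8 segM_7).2.2.2.2.2.1, rfl, rfl, (and8 segN_7).2.2.2.2.2.1, rfl, rfl, trivial⟩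

/-- the segments of a table in a class -/
noncomputable def cI1560_11 : List (Seg × Dyn) :=
  [(gH_11, dI1560_H_11), (gI_11, dI1560_I_11), (gJ_11, dI1560_J_11), (gK_11, dI1560_K_11), (gL_11, dI1560_L_11), (gM_11, dI1560_M_11), (gN_11, dI1560_N_11)]

theorem aI1560_11 : AllOk jI1560 lp lm cI1560_11 :=
  ⟨(and8 segH_11).2.2.2.2.2.1, rfl, rfl, (and8 segI_11).2.2.2.2.2.1, rfl, rfl, (and8 segJ_11).2.2.2.2.2.1, rfl, rfl, (and8 segK_11).2.2.2.2.2.1, rfl, rfl, (and8 segL_11).2.2.2.2.2.1, rfl, rfl, (and8 segM_11).2.2.2.2.2.1, rfl, rfl, (and8 segN_11).2.2.2.2.2.1, rfl, rfl, trivial⟩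

/-- the segments of a table in a class -/
noncomputable def cI1560_13 : List (Seg × Dyn) :=
  [(gH_13, dI1560_H_13), (gI_13, dI1560_I_13), (gJ_13, dI1560_J_13), (gK_13, dI1560_K_13), (gL_13, dI1560_L_13), (gM_13, dI1560_M_13), (gN_13, dI1560_N_13)]

theorem aI1560_13 : AllOk jI1560 lp lm cI1560_13 :=
  ⟨(and8 segH_13).2.2.2.2.2.1, rfl, rfl, (and8 segI_13).2.2.2.2.2.1, rfl, rfl, (and8 segJ_13).2.2.2.2.2.1, rfl, rfl, (and8 segK_13).2.2.2.2.2.1, rfl, rfl, (and8 segL_13).2.2.2.2.2.1, rfl, rfl, (and8 segM_13).2.2.2.2.2.1, rfl, rfl, (and8 segN_13).2.2.2.2.2.1, rfl, rfl, trivial⟩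

/-- the segments of a table in a class -/
noncomputable def cI1560_17 : List (Seg × Dyn) :=
  [(gH_17, dI1560_H_17), (gI_17, dI1560_I_17), (gJ_17, dI1560_J_17), (gK_17, dI1560_K_17), (gL_17, dI1560_L_17), (gM_17, dI1560_M_17), (gN_17, dI1560_N_17)]

theorem aI1560_17 : AllOk jI1560 lp lm cI1560_17 :=
  ⟨(and8 segH_17).2.2.2.2.2.1, rfl, rfl, (and8 segI_17).2.2.2.2.2.1, rfl, rfl, (and8 segJ_17).2.2.2.2.2.1, rfl, rfl, (and8 segK_17).2.2.2.2.2.1, rfl, rfl, (and8 segL_17).2.2.2.2.2.1, rfl, rfl, (and8 segM_17).2.2.2.2.2.1, rfl, rfl, (and8 segN_17).2.2.2.2.2.1, rfl, rfl, trivial⟩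

/-- the segments of a table in a class -/
noncomputable def cI1560_19 : List (Seg × Dyn) :=
  [(gH_19, dI1560_H_19), (gI_19, dI1560_I_19), (gJ_19, dI1560_J_19), (gK_19, dI1560_K_19), (gL_19, dI1560_L_19), (gM_19, dI1560_M_19), (gN_19, dI1560_N_19)]

theorem aI1560_19 : AllOk jI1560 lp lm cI1560_19 :=
  ⟨(and8 segH_19).2.2.2.2.2.1, rfl, rfl, (and8 segI_19).2.2.2.2.2.1, rfl, rfl, (and8 segJ_19).2.2.2.2.2.1, rfl, rfl, (and8 segK_19).2.2.2.2.2.1, rfl, rfl, (and8 segL_19).2.2.2.2.2.1, rfl, rfl, (and8 segM_19).2.2.2.2.2.1, rfl, rfl, (and8 segN_19).2.2.2.2.2.1, rfl, rfl, trivial⟩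

/-- the segments of a table in a class -/
noncomputable def cI1560_23 : List (Seg × Dyn) :=
  [(gH_23, dI1560_H_23), (gI_23, dI1560_I_23), (gJ_23, dI1560_J_23), (gK_23, dI1560_K_23), (gL_23, dI1560_L_23), (gM_23, dI1560_M_23), (gN_23, dI1560_N_23)]

theorem aI1560_23 : AllOk jI1560 lp lm cI1560_23 :=
  ⟨(and8 segH_23).2.2.2.2.2.1, rfl, rfl, (and8 segI_23).2.2.2.2.2.1, rfl, rfl, (and8 segJ_23).2.2.2.2.2.1, rfl, rfl, (and8 segK_23).2.2.2.2.2.1, rfl, rfl, (and8 segL_23).2.2.2.2.2.1, rfl, rfl, (and8 segM_23).2.2.2.2.2.1, rfl, rfl, (and8 segN_23).2.2.2.2.2.1, rfl, rfl, trivial⟩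

/-- the segments of a table in a class -/
noncomputable def cI1560_29 : List (Seg × Dyn) :=
  [(gH_29, dI1560_H_29), (gI_29, dI1560_I_29), (gJ_29, dI1560_J_29), (gK_29, dI1560_K_29), (gL_29, dI1560_L_29), (gM_29, dI1560_M_29), (gN_29, dI1560_N_29)]

theorem aI1560_29 : AllOk jI1560 lp lm cI1560_29 :=
  ⟨(and8 segH_29).2.2.2.2.2.1, rfl, rfl, (and8 segI_29).2.2.2.2.2.1, rfl, rfl, (and8 segJ_29).2.2.2.2.2.1, rfl, rfl, (and8 segK_29).2.2.2.2.2.1, rfl, rfl, (and8 segL_29).2.2.2.2.2.1, rfl, rfl, (and8 segM_29).2.2.2.2.2.1, rfl, rfl, (and8 segN_29).2.2.2.2.2.1, rfl, rfl, trivial⟩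

theorem tabI1560 : Tab 2 1560 23000 Ap1560 Am1560 0 bI1560 :=
  tab_of (J := jI1560) trm1560 0xfffffffffffff00000000000000000000000000000000000000000000000000000000000000000000000000000000000000000000000000000000 (by decide +kernel)
    [(1, cI1560_1), (7, cI1560_7), (11, cI1560_11), (13, cI1560_13), (17, cI1560_17), (19, cI1560_19), (23, cI1560_23), (29, cI1560_29)]
    rfl bI1560 ⟨aI1560_1, aI1560_7, aI1560_11, aI1560_13, aI1560_17, aI1560_19, aI1560_23, aI1560_29, trivial⟩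
    (by decide +kernel)

/-- the segments of a table in a class -/
noncomputable def cI2040_1 : List (Seg × Dyn) :=
  [(gH_1, dI2040_H_1), (gI_1, dI2040_I_1), (gJ_1, dI2040_J_1), (gK_1, dI2040_K_1), (gL_1, dI2040_L_1), (gM_1, dI2040_M_1), (gN_1, dI2040_N_1)]

theorem aI2040_1 : AllOk jI2040 lp lm cI2040_1 :=
  ⟨(and8 segH_1).2.2.2.2.2.2.1, rfl, rfl, (and8 segI_1).2.2.2.2.2.2.1, rfl, rfl, (and8 segJ_1).2.2.2.2.2.2.1, rfl, rfl, (and8 segK_1).2.2.2.2.2.2.1, rfl, rfl, (and8 segL_1).2.2.2.2.2.2.1, rfl, rfl, (and8 segM_1).2.2.2.2.2.2.1, rfl, rfl, (and8 segN_1).2.2.2.2.2.2.1, rfl, rfl, trivial⟩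

/-- the segments of a table in a class -/
noncomputable def cI2040_7 : List (Seg × Dyn) :=
  [(gH_7, dI2040_H_7), (gI_7, dI2040_I_7), (gJ_7, dI2040_J_7), (gK_7, dI2040_K_7), (gL_7, dI2040_L_7), (gM_7, dI2040_M_7), (gN_7, dI2040_N_7)]

theorem aI2040_7 : AllOk jI2040 lp lm cI2040_7 :=
  ⟨(and8 segH_7).2.2.2.2.2.2.1, rfl, rfl, (and8 segI_7).2.2.2.2.2.2.1, rfl, rfl, (and8 segJ_7).2.2.2.2.2.2.1, rfl, rfl, (and8 segK_7).2.2.2.2.2.2.1, rfl, rfl, (and8 segL_7).2.2.2.2.2.2.1, rfl, rfl, (and8 segM_7).2.2.2.2.2.2.1, rfl, rfl, (and8 segN_7).2.2.2.2.2.2.1, rfl, rfl, trivial⟩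

/-- the segments of a table in a class -/
noncomputable def cI2040_11 : List (Seg × Dyn) :=
  [(gH_11, dI2040_H_11), (gI_11, dI2040_I_11), (gJ_11, dI2040_J_11), (gK_11, dI2040_K_11), (gL_11, dI2040_L_11), (gM_11, dI2040_M_11), (gN_11, dI2040_N_11)]

theorem aI2040_11 : AllOk jI2040 lp lm cI2040_11 :=
  ⟨(and8 segH_11).2.2.2.2.2.2.1, rfl, rfl, (and8 segI_11).2.2.2.2.2.2.1, rfl, rfl, (and8 segJ_11).2.2.2.2.2.2.1, rfl, rfl, (and8 segK_11).2.2.2.2.2.2.1, rfl, rfl, (and8 segL_11).2.2.2.2.2.2.1, rfl, rfl, (and8 segM_11).2.2.2.2.2.2.1, rfl, rfl, (and8 segN_11).2.2.2.2.2.2.1, rfl, rfl, trivial⟩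

/-- the segments of a table in a class -/
noncomputable def cI2040_13 : List (Seg × Dyn) :=
  [(gH_13, dI2040_H_13), (gI_13, dI2040_I_13), (gJ_13, dI2040_J_13), (gK_13, dI2040_K_13), (gL_13, dI2040_L_13), (gM_13, dI2040_M_13), (gN_13, dI2040_N_13)]

theorem aI2040_13 : AllOk jI2040 lp lm cI2040_13 :=
  ⟨(and8 segH_13).2.2.2.2.2.2.1, rfl, rfl, (and8 segI_13).2.2.2.2.2.2.1, rfl, rfl, (and8 segJ_13).2.2.2.2.2.2.1, rfl, rfl, (and8 segK_13).2.2.2.2.2.2.1, rfl, rfl, (and8 segL_13).2.2.2.2.2.2.1, rfl, rfl, (and8 segM_13).2.2.2.2.2.2.1, rfl, rfl, (and8 segN_13).2.2.2.2.2.2.1, rfl, rfl, trivial⟩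

/-- the segments of a table in a class -/
noncomputable def cI2040_17 : List (Seg × Dyn) :=
  [(gH_17, dI2040_H_17), (gI_17, dI2040_I_17), (gJ_17, dI2040_J_17), (gK_17, dI2040_K_17), (gL_17, dI2040_L_17), (gM_17, dI2040_M_17), (gN_17, dI2040_N_17)]

theorem aI2040_17 : AllOk jI2040 lp lm cI2040_17 :=
  ⟨(and8 segH_17).2.2.2.2.2.2.1, rfl, rfl, (and8 segI_17).2.2.2.2.2.2.1, rfl, rfl, (and8 segJ_17).2.2.2.2.2.2.1, rfl, rfl, (and8 segK_17).2.2.2.2.2.2.1, rfl, rfl, (and8 segL_17).2.2.2.2.2.2.1, rfl, rfl, (and8 segM_17).2.2.2.2.2.2.1, rfl, rfl, (and8 segN_17).2.2.2.2.2.2.1, rfl, rfl, trivial⟩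

/-- the segments of a table in a class -/
noncomputable def cI2040_19 : List (Seg × Dyn) :=
  [(gH_19, dI2040_H_19), (gI_19, dI2040_I_19), (gJ_19, dI2040_J_19), (gK_19, dI2040_K_19), (gL_19, dI2040_L_19), (gM_19, dI2040_M_19), (gN_19, dI2040_N_19)]

theorem aI2040_19 : AllOk jI2040 lp lm cI2040_19 :=
  ⟨(and8 segH_19).2.2.2.2.2.2.1, rfl, rfl, (and8 segI_19).2.2.2.2.2.2.1, rfl, rfl, (and8 segJ_19).2.2.2.2.2.2.1, rfl, rfl, (and8 segK_19).2.2.2.2.2.2.1, rfl, rfl, (and8 segL_19).2.2.2.2.2.2.1, rfl, rfl, (and8 segM_19).2.2.2.2.2.2.1, rfl, rfl, (and8 segN_19).2.2.2.2.2.2.1, rfl, rfl, trivial⟩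

/-- the segments of a table in a class -/
noncomputable def cI2040_23 : List (Seg × Dyn) :=
  [(gH_23, dI2040_H_23), (gI_23, dI2040_I_23), (gJ_23, dI2040_J_23), (gK_23, dI2040_K_23), (gL_23, dI2040_L_23), (gM_23, dI2040_M_23), (gN_23, dI2040_N_23)]

theorem aI2040_23 : AllOk jI2040 lp lm cI2040_23 :=
  ⟨(and8 segH_23).2.2.2.2.2.2.1, rfl, rfl, (and8 segI_23).2.2.2.2.2.2.1, rfl, rfl, (and8 segJ_23).2.2.2.2.2.2.1, rfl, rfl, (and8 segK_23).2.2.2.2.2.2.1, rfl, rfl, (and8 segL_23).2.2.2.2.2.2.1, rfl, rfl, (and8 segM_23).2.2.2.2.2.2.1, rfl, rfl, (and8 segN_23).2.2.2.2.2.2.1, rfl, rfl, trivial⟩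

/-- the segments of a table in a class -/
noncomputable def cI2040_29 : List (Seg × Dyn) :=
  [(gH_29, dI2040_H_29), (gI_29, dI2040_I_29), (gJ_29, dI2040_J_29), (gK_29, dI2040_K_29), (gL_29, dI2040_L_29), (gM_29, dI2040_M_29), (gN_29, dI2040_N_29)]

theorem aI2040_29 : AllOk jI2040 lp lm cI2040_29 :=
  ⟨(and8 segH_29).2.2.2.2.2.2.1, rfl, rfl, (and8 segI_29).2.2.2.2.2.2.1, rfl, rfl, (and8 segJ_29).2.2.2.2.2.2.1, rfl, rfl, (and8 segK_29).2.2.2.2.2.2.1, rfl, rfl, (and8 segL_29).2.2.2.2.2.2.1, rfl, rfl, (and8 segM_29).2.2.2.2.2.2.1, rfl, rfl, (and8 segN_29).2.2.2.2.2.2.1, rfl, rfl, trivial⟩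

theorem tabI2040 : Tab 2 2040 23000 Ap2040 Am2040 0 bI2040 :=
  tab_of (J := jI2040) trm2040 0xfffffffffffffffff0000000000000000000000000000000000000000000000000000000000000000000000000000000000000000000000000000000000000000000000000000000000000000 (by decide +kernel)
    [(1, cI2040_1), (7, cI2040_7), (11, cI2040_11), (13, cI2040_13), (17, cI2040_17), (19, cI2040_19), (23, cI2040_23), (29, cI2040_29)]
    rfl bI2040 ⟨aI2040_1, aI2040_7, aI2040_11, aI2040_13, aI2040_17, aI2040_19, aI2040_23, aI2040_29, trivial⟩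
    (by decide +kernel)

/-- the segments of a table in a class -/
noncomputable def cI2280_1 : List (Seg × Dyn) :=
  [(gH_1, dI2280_H_1), (gI_1, dI2280_I_1), (gJ_1, dI2280_J_1), (gK_1, dI2280_K_1), (gL_1, dI2280_L_1), (gM_1, dI2280_M_1), (gN_1, dI2280_N_1)]

theorem aI2280_1 : AllOk jI2280 lp lm cI2280_1 :=
  ⟨(and8 segH_1).2.2.2.2.2.2.2, rfl, rfl, (and8 segI_1).2.2.2.2.2.2.2, rfl, rfl, (and8 segJ_1).2.2.2.2.2.2.2, rfl, rfl, (and8 segK_1).2.2.2.2.2.2.2, rfl, rfl, (and8 segL_1).2.2.2.2.2.2.2, rfl, rfl, (and8 segM_1).2.2.2.2.2.2.2, rfl, rfl, (and8 segN_1).2.2.2.2.2.2.2, rfl, rfl, trivial⟩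

/-- the segments of a table in a class -/
noncomputable def cI2280_7 : List (Seg × Dyn) :=
  [(gH_7, dI2280_H_7), (gI_7, dI2280_I_7), (gJ_7, dI2280_J_7), (gK_7, dI2280_K_7), (gL_7, dI2280_L_7), (gM_7, dI2280_M_7), (gN_7, dI2280_N_7)]

theorem aI2280_7 : AllOk jI2280 lp lm cI2280_7 :=
  ⟨(and8 segH_7).2.2.2.2.2.2.2, rfl, rfl, (and8 segI_7).2.2.2.2.2.2.2, rfl, rfl, (and8 segJ_7).2.2.2.2.2.2.2, rfl, rfl, (and8 segK_7).2.2.2.2.2.2.2, rfl, rfl, (and8 segL_7).2.2.2.2.2.2.2, rfl, rfl, (and8 segM_7).2.2.2.2.2.2.2, rfl, rfl, (and8 segN_7).2.2.2.2.2.2.2, rfl, rfl, trivial⟩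

/-- the segments of a table in a class -/
noncomputable def cI2280_11 : List (Seg × Dyn) :=
  [(gH_11, dI2280_H_11), (gI_11, dI2280_I_11), (gJ_11, dI2280_J_11), (gK_11, dI2280_K_11), (gL_11, dI2280_L_11), (gM_11, dI2280_M_11), (gN_11, dI2280_N_11)]

theorem aI2280_11 : AllOk jI2280 lp lm cI2280_11 :=
  ⟨(and8 segH_11).2.2.2.2.2.2.2, rfl, rfl, (and8 segI_11).2.2.2.2.2.2.2, rfl, rfl, (and8 segJ_11).2.2.2.2.2.2.2, rfl, rfl, (and8 segK_11).2.2.2.2.2.2.2, rfl, rfl, (and8 segL_11).2.2.2.2.2.2.2, rfl, rfl, (and8 segM_11).2.2.2.2.2.2.2, rfl, rfl, (and8 segN_11).2.2.2.2.2.2.2, rfl, rfl, trivial⟩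

/-- the segments of a table in a class -/
noncomputable def cI2280_13 : List (Seg × Dyn) :=
  [(gH_13, dI2280_H_13), (gI_13, dI2280_I_13), (gJ_13, dI2280_J_13), (gK_13, dI2280_K_13), (gL_13, dI2280_L_13), (gM_13, dI2280_M_13), (gN_13, dI2280_N_13)]

theorem aI2280_13 : AllOk jI2280 lp lm cI2280_13 :=
  ⟨(and8 segH_13).2.2.2.2.2.2.2, rfl, rfl, (and8 segI_13).2.2.2.2.2.2.2, rfl, rfl, (and8 segJ_13).2.2.2.2.2.2.2, rfl, rfl, (and8 segK_13).2.2.2.2.2.2.2, rfl, rfl, (and8 segL_13).2.2.2.2.2.2.2, rfl, rfl, (and8 segM_13).2.2.2.2.2.2.2, rfl, rfl, (and8 segN_13).2.2.2.2.2.2.2, rfl, rfl, trivial⟩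

/-- the segments of a table in a class -/
noncomputable def cI2280_17 : List (Seg × Dyn) :=
  [(gH_17, dI2280_H_17), (gI_17, dI2280_I_17), (gJ_17, dI2280_J_17), (gK_17, dI2280_K_17), (gL_17, dI2280_L_17), (gM_17, dI2280_M_17), (gN_17, dI2280_N_17)]

theorem aI2280_17 : AllOk jI2280 lp lm cI2280_17 :=
  ⟨(and8 segH_17).2.2.2.2.2.2.2, rfl, rfl, (and8 segI_17).2.2.2.2.2.2.2, rfl, rfl, (and8 segJ_17).2.2.2.2.2.2.2, rfl, rfl, (and8 segK_17).2.2.2.2.2.2.2, rfl, rfl, (and8 segL_17).2.2.2.2.2.2.2, rfl, rfl, (and8 segM_17).2.2.2.2.2.2.2, rfl, rfl, (and8 segN_17).2.2.2.2.2.2.2, rfl, rfl, trivial⟩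

/-- the segments of a table in a class -/
noncomputable def cI2280_19 : List (Seg × Dyn) :=
  [(gH_19, dI2280_H_19), (gI_19, dI2280_I_19), (gJ_19, dI2280_J_19), (gK_19, dI2280_K_19), (gL_19, dI2280_L_19), (gM_19, dI2280_M_19), (gN_19, dI2280_N_19)]

theorem aI2280_19 : AllOk jI2280 lp lm cI2280_19 :=
  ⟨(and8 segH_19).2.2.2.2.2.2.2, rfl, rfl, (and8 segI_19).2.2.2.2.2.2.2, rfl, rfl, (and8 segJ_19).2.2.2.2.2.2.2, rfl, rfl, (and8 segK_19).2.2.2.2.2.2.2, rfl, rfl, (and8 segL_19).2.2.2.2.2.2.2, rfl, rfl, (and8 segM_19).2.2.2.2.2.2.2, rfl, rfl, (and8 segN_19).2.2.2.2.2.2.2, rfl, rfl, trivial⟩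

/-- the segments of a table in a class -/
noncomputable def cI2280_23 : List (Seg × Dyn) :=
  [(gH_23, dI2280_H_23), (gI_23, dI2280_I_23), (gJ_23, dI2280_J_23), (gK_23, dI2280_K_23), (gL_23, dI2280_L_23), (gM_23, dI2280_M_23), (gN_23, dI2280_N_23)]

theorem aI2280_23 : AllOk jI2280 lp lm cI2280_23 :=
  ⟨(and8 segH_23).2.2.2.2.2.2.2, rfl, rfl, (and8 segI_23).2.2.2.2.2.2.2, rfl, rfl, (and8 segJ_23).2.2.2.2.2.2.2, rfl, rfl, (and8 segK_23).2.2.2.2.2.2.2, rfl, rfl, (and8 segL_23).2.2.2.2.2.2.2, rfl, rfl, (and8 segM_23).2.2.2.2.2.2.2, rfl, rfl, (and8 segN_23).2.2.2.2.2.2.2, rfl, rfl, trivial⟩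

/-- the segments of a table in a class -/
noncomputable def cI2280_29 : List (Seg × Dyn) :=
  [(gH_29, dI2280_H_29), (gI_29, dI2280_I_29), (gJ_29, dI2280_J_29), (gK_29, dI2280_K_29), (gL_29, dI2280_L_29), (gM_29, dI2280_M_29), (gN_29, dI2280_N_29)]

theorem aI2280_29 : AllOk jI2280 lp lm cI2280_29 :=
  ⟨(and8 segH_29).2.2.2.2.2.2.2, rfl, rfl, (and8 segI_29).2.2.2.2.2.2.2, rfl, rfl, (and8 segJ_29).2.2.2.2.2.2.2, rfl, rfl, (and8 segK_29).2.2.2.2.2.2.2, rfl, rfl, (and8 segL_29).2.2.2.2.2.2.2, rfl, rfl, (and8 segM_29).2.2.2.2.2.2.2, rfl, rfl, (and8 segN_29).2.2.2.2.2.2.2, rfl, rfl, trivial⟩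

theorem tabI2280 : Tab 2 2280 23000 Ap2280 Am2280 0 bI2280 :=
  tab_of (J := jI2280) trm2280 0xfffffffffffffffffff00000000000000000000000000000000000000000000000000000000000000000000000000000000000000000000000000000000000000000000000000000000000000000000000000000000 (by decide +kernel)
    [(1, cI2280_1), (7, cI2280_7), (11, cI2280_11), (13, cI2280_13), (17, cI2280_17), (19, cI2280_19), (23, cI2280_23), (29, cI2280_29)]
    rfl bI2280 ⟨aI2280_1, aI2280_7, aI2280_11, aI2280_13, aI2280_17, aI2280_19, aI2280_23, aI2280_29, trivial⟩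
    (by decide +kernel)

/-- the tables -/
theorem tabs : Tabs :=
  ⟨tabP60, tabI60, tabI120, tabI840, tabI1320, tabI1560, tabI2040, tabI2280⟩

end Cfsg.Agent.Depth.P.T
end
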